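import Cfsg.Agent.SchurBound.Basic
import Cfsg.Agent.Schur.Basic

/-!
# Canonical lifts of elements of order prime to the exponent of a central kernel
-/

set_option autoImplicit false
set_option linter.style.haveILetI false

namespace CfsgLib.SchurBound

open scoped commutatorElement

variable {Γ G : Type*} [Group Γ] [Group G] (σ : Γ →* G) (N : ℕ)

open Classical in
/-- The lift of an `N`-torsion element whose `N`-th power is `1`; `1` if there is none. -/
noncomputable def hat (g : G) : Γ := if h : ∃ x, σ x = g ∧ x ^ N = 1 then h.choose else 1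

variable {σ N}

/-- The hypotheses on a central extension with kernel of exponent prime to `N`. -/
structure CopExt (σ : Γ →* G) (p N : ℕ) : Prop where
  surj : Function.Surjective σ
  central : σ.ker ≤ Subgroup.center Γ
  exp : ∀ z, σ z = 1 → z ^ p = 1
  cop : Nat.Coprime p N

variable {p : ℕ} (hE : CopExt σ p N)
include hE

theorem CopExt.ker_eq_one {z : Γ} (hz : σ z = 1) (hN : z ^ N = 1) : z = 1 := by
  rw [← orderOf_eq_one_iff]
  exact Nat.eq_one_of_dvd_coprimes hE.cop (orderOf_dvd_of_pow_eq_one (hE.exp z hz))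
    (orderOf_dvd_of_pow_eq_one hN)

theorem CopExt.unique {x y : Γ} (h : σ x = σ y) (hx : x ^ N = 1) (hy : y ^ N = 1) : x = y := by
  set z := x⁻¹ * y with hz
  have hz1 : σ z = 1 := by rw [hz, map_mul, map_inv, h, inv_mul_cancel]
  have hc : Commute x z := (commute_of_mem_ker σ hE.central hz1 x).symm
  have hzN : z ^ N = 1 := by
    have e : (x * z) ^ N = 1 := by rwa [hz, mul_inv_cancel_left]
    rwa [hc.mul_pow, hx, one_mul] at e
  exact inv_mul_eq_one.1 (hE.ker_eq_one hz1 hzN)

theorem CopExt.exists_lift {g : G} (hg : g ^ N = 1) : ∃ x, σ x = g ∧ x ^ N = 1 := by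
  obtain ⟨y, rfl⟩ := hE.surj g
  rcases Nat.eq_zero_or_pos N with rfl | hN
  · exact ⟨y, rfl, pow_zero y⟩
  rcases Nat.lt_or_ge 1 N with h1 | h1
  · obtain ⟨k, -, hk⟩ := Nat.exists_mul_mod_eq_one_of_coprime hE.cop h1
    refine ⟨y ^ (p * k), ?_, ?_⟩
    · conv_rhs => rw [← pow_one (σ y)]
      rw [map_pow, ← Nat.div_add_mod (p * k) N, hk, pow_add, pow_mul, hg, one_pow, one_mul]
    · rw [← pow_mul, mul_comm (p * k) N, pow_mul, pow_mul,
        hE.exp _ (by rw [map_pow]; exact hg), one_pow]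
  · obtain rfl : N = 1 := by omega
    rw [pow_one] at hg
    exact ⟨1, by rw [map_one, hg], one_pow 1⟩

theorem CopExt.hat_spec {g : G} (hg : g ^ N = 1) : σ (hat σ N g) = g ∧ hat σ N g ^ N = 1 := by
  have h := hE.exists_lift hg
  rw [hat, dif_pos h]
  exact h.choose_spec

theorem CopExt.sigma_hat {g : G} (hg : g ^ N = 1) : σ (hat σ N g) = g := (hE.hat_spec hg).1

theorem CopExt.eq_hat {x : Γ} {g : G} (hx : σ x = g) (hN : x ^ N = 1) : x = hat σ N g := by
  have hg : g ^ N = 1 := by rw [← hx, ← map_pow, hN, map_one]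
  exact hE.unique (hx.trans (hE.sigma_hat hg).symm) hN (hE.hat_spec hg).2

theorem CopExt.hat_one : hat σ N 1 = 1 := (hE.eq_hat (map_one σ) (one_pow N)).symm

theorem CopExt.conj_hat (γ : Γ) {g : G} (hg : g ^ N = 1) :
    γ * hat σ N g * γ⁻¹ = hat σ N (σ γ * g * (σ γ)⁻¹) :=
  hE.eq_hat (by rw [map_mul, map_mul, map_inv, hE.sigma_hat hg])
    (by rw [conj_pow, (hE.hat_spec hg).2, mul_one, mul_inv_cancel])

theorem CopExt.hat_inv {g : G} (hg : g ^ N = 1) : hat σ N g⁻¹ = (hat σ N g)⁻¹ :=
  (hE.eq_hat (by rw [map_inv, hE.sigma_hat hg])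
    (by rw [inv_pow, (hE.hat_spec hg).2, inv_one])).symm

/-- The lift is multiplicative on a subgroup whose order divides `N`. -/
theorem CopExt.hat_mul {S : Subgroup G} [Finite S] (hS : Nat.card S ∣ N) {g h : G} (hg : g ∈ S)
    (hh : h ∈ S) : hat σ N (g * h) = hat σ N g * hat σ N h := by
  have tors : ∀ a ∈ S, a ^ N = 1 := fun a ha =>
    pow_eq_one_iff_modEq.2 (Nat.modEq_zero_iff_dvd.2 ((Subgroup.orderOf_dvd_natCard S ha).trans hS))
  obtain ⟨hσg, hNg⟩ := hE.hat_spec (tors g hg)
  obtain ⟨hσh, hNh⟩ := hE.hat_spec (tors h hh)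
  refine (hE.eq_hat (by rw [map_mul, hσg, hσh]) ?_).symm
  let E := S.comap σ
  let x : E := ⟨hat σ N g, by rw [Subgroup.mem_comap, hσg]; exact hg⟩
  let y : E := ⟨hat σ N h, by rw [Subgroup.mem_comap, hσh]; exact hh⟩
  have hle : σ.ker.subgroupOf E ≤ Subgroup.center E := fun z hz =>
    Subgroup.mem_center_iff.2 fun e => Subtype.ext
      (Subgroup.mem_center_iff.1 (hE.central (Subgroup.mem_subgroupOf.1 hz)) e)
  have hidx : (σ.ker.subgroupOf E).index = Nat.card S := by
    let τ : E →* S := (σ.comp E.subtype).codRestrict S fun e => e.2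
    have hτ : Function.Surjective τ := fun s => by
      obtain ⟨a, ha⟩ := hE.surj (s : G)
      exact ⟨⟨a, by rw [Subgroup.mem_comap, ha]; exact s.2⟩, Subtype.ext ha⟩
    have hk : τ.ker = σ.ker.subgroupOf E := by
      ext e
      rw [MonoidHom.mem_ker, Subgroup.mem_subgroupOf, MonoidHom.mem_ker]
      exact Subtype.ext_iff
    rw [← hk, Subgroup.index_ker, MonoidHom.range_eq_top.2 hτ, Subgroup.card_top]
  haveI : (σ.ker.subgroupOf E).FiniteIndex := ⟨by rw [hidx]; exact Nat.card_pos.ne'⟩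
  haveI : (Subgroup.center E).FiniteIndex := Subgroup.finiteIndex_of_le hle
  obtain ⟨j, hj⟩ := (Subgroup.index_dvd_of_le hle).trans (hidx ▸ hS)
  have key : (x * y) ^ N = 1 := by
    have h1 : ((x * y) ^ (Subgroup.center E).index) =
        x ^ (Subgroup.center E).index * y ^ (Subgroup.center E).index :=
      congrArg Subtype.val (map_mul (MonoidHom.transferCenterPow E) x y)
    have hc : Commute (x ^ (Subgroup.center E).index) (y ^ (Subgroup.center E).index) :=
      ((Subgroup.mem_center_iff.1 ((Subgroup.center E).pow_index_mem x)) _).symm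
    rw [hj, pow_mul, h1, hc.mul_pow, ← pow_mul, ← pow_mul, ← hj,
      show x ^ N = 1 from Subtype.ext (by simpa using hNg),
      show y ^ N = 1 from Subtype.ext (by simpa using hNh), mul_one]
  simpa [x, y] using congrArg Subtype.val key

omit hE in
/-- A central element of the commutator subgroup of `H` is trivial if the image of `H` has a
cyclic subgroup of index prime to its order. -/
theorem eq_one_of_cyclic {σ : Γ →* G} [Finite Γ] (hc : σ.ker ≤ Subgroup.center Γ) {H : Subgroup Γ}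
    {z : Γ} (hz : σ z = 1) (hzH : z ∈ ⁅H, H⁆) {g : G} (hg : g ∈ H.map σ)
    (hcop : (orderOf z).Coprime ((Subgroup.zpowers g).subgroupOf (H.map σ)).index) : z = 1 := by
  have hH : ⁅H, H⁆ ≤ H := Subgroup.commutator_le.2 fun a ha b hb => by
    rw [commutatorElement_def]
    exact mul_mem (mul_mem (mul_mem ha hb) (inv_mem ha)) (inv_mem hb)
  let z' : H := ⟨z, hH hzH⟩
  let τ : H →* H.map σ := (σ.comp H.subtype).codRestrict _ fun h => Subgroup.mem_map_of_mem σ h.2
  have hτ : Function.Surjective τ := by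
    rintro ⟨_, a, ha, rfl⟩
    exact ⟨⟨a, ha⟩, rfl⟩
  have hz'c : z' ∈ Subgroup.center H := Subgroup.mem_center_iff.2 fun e =>
    Subtype.ext (Subgroup.mem_center_iff.1 (hc hz) e)
  have hz'd : z' ∈ commutator H := by
    rw [← Subgroup.map_subtype_commutator] at hzH
    obtain ⟨w, hw, e⟩ := hzH
    exact (Subtype.ext e : w = z') ▸ hw
  set C := ((Subgroup.zpowers g).subgroupOf (H.map σ)).comap τ with hC
  have h1 : z' ∈ ⁅C, C⁆ := Schur.mem_commutator_of_index_coprime C hz'c hz'd (by
    rw [hC, Subgroup.index_comap_of_surjective _ hτ, ← Subgroup.orderOf_coe z']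
    exact hcop)
  obtain ⟨X, hX, hXg⟩ := Subgroup.mem_map.1 hg
  have hcomm : ∀ a ∈ C, ∀ b ∈ C, Commute a b := by
    have hone : ∀ a ∈ C, ∃ k : ℤ, ∃ w, σ w = 1 ∧ (a : Γ) = w * X ^ k := by
      intro a ha
      have ha' : σ (a : Γ) ∈ Subgroup.zpowers g := ha
      obtain ⟨k, hk⟩ := Subgroup.mem_zpowers_iff.1 ha'
      exact ⟨k, a * (X ^ k)⁻¹, by rw [map_mul, map_inv, map_zpow, hXg, hk, mul_inv_cancel],
        by group⟩
    intro a ha b hb
    obtain ⟨k, w, hw, ea⟩ := hone a ha
    obtain ⟨l, w', hw', eb⟩ := hone b hb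
    refine Subtype.ext ?_
    show (a : Γ) * b = b * a
    rw [ea, eb]
    exact (((commute_of_mem_ker σ hc hw _).mul_left
      ((commute_of_mem_ker σ hc hw' (X ^ k)).symm.mul_right (((Commute.refl X).zpow_left k).zpow_right l)))).eq
  have h2 : ⁅C, C⁆ = ⊥ := by
    rw [eq_bot_iff, Subgroup.commutator_le]
    intro a ha b hb
    rw [Subgroup.mem_bot, commutatorElement_eq_one_iff_commute]
    exact hcomm a ha b hb
  rw [h2, Subgroup.mem_bot] at h1
  exact congrArg Subtype.val h1

end CfsgLib.SchurBound
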