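import Cfsg.Agent.ReeF4Schur.RankOne
import Cfsg.Agent.ReeF4Schur.Coprime

/-!
# Central extensions for odd primes prime to the order of the Borel subgroup
-/

set_option autoImplicit false
set_option maxHeartbeats 1000000
set_option linter.style.haveILetI false
set_option linter.unusedSectionVars false

namespace CfsgLib.ReeF4

open Cfsg.Lie CfsgLib.Chevalley CfsgLib.SchurBound
open scoped MatrixGroups commutatorElement

variable {K : Type*} [Field K] [CharP K 2] [Finite K] (T : Tw K)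
variable {Γ : Type*} [Group Γ] (σ : Γ →* ↥T.G1)

/-- The exponent used for the canonical lifts. -/
noncomputable def Tw.expN : ℕ := Nat.card ↥(D.borelSubgroup K ⊓ T.G1)

open Classical in
/-- The canonical lift of a matrix. -/
noncomputable def Tw.cl (g : GL D.Idx K) : Γ :=
  if h : g ∈ T.G1 then hat σ T.expN ⟨g, h⟩ else 1

variable {T σ}

theorem Tw.pow_expN_of_mem_B {g : GL D.Idx K} (hg : g ∈ D.borelSubgroup K ⊓ T.G1) :
    g ^ T.expN = 1 :=
  orderOf_dvd_iff_pow_eq_one.1 (Subgroup.orderOf_dvd_natCard _ hg)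

theorem Tw.sixteen_dvd_expN : 16 ∣ T.expN := by
  haveI := Fintype.ofFinite K
  obtain ⟨r, -, hr⟩ := FiniteField.card K 2
  rw [Tw.expN, T.natCard_B, Nat.card_eq_fintype_card, hr, ← pow_mul]
  refine Dvd.dvd.mul_right ?_ _
  rw [show (16 : ℕ) = 2 ^ 4 by norm_num]
  refine pow_dvd_pow 2 ?_
  have := r.pos
  omega

variable (T) in
/-- The sixteen monomial elements as a homomorphism. -/
def Tw.nHom : DihedralGroup 8 →* GL D.Idx K :=
  MonoidHom.mk' (nD K) fun a b => (T.nD_mul a b).symm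

theorem Tw.natCard_nHom : Nat.card ↥T.nHom.range ∣ T.expN := by
  refine ((Subgroup.card_range_dvd T.nHom).trans ?_).trans T.sixteen_dvd_expN
  rw [DihedralGroup.nat_card]

theorem Tw.pow_expN_nD (d : DihedralGroup 8) : nD K d ^ T.expN = 1 :=
  orderOf_dvd_iff_pow_eq_one.1
    ((Subgroup.orderOf_dvd_natCard T.nHom.range ⟨d, rfl⟩).trans T.natCard_nHom)

/-- The extension data. -/
structure OddExt (T : Tw K) (σ : Γ →* ↥T.G1) (p : ℕ) : Prop where
  cop : CopExt σ p T.expN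
  prime : p.Prime
  two : p ≠ 2

variable {p : ℕ} (hX : OddExt T σ p)
include hX

theorem OddExt.cl_spec {g : GL D.Idx K} (hg : g ∈ T.G1) (hN : g ^ T.expN = 1) :
    (σ (T.cl σ g) : GL D.Idx K) = g ∧ T.cl σ g ^ T.expN = 1 := by
  rw [Tw.cl, dif_pos hg]
  obtain ⟨h1, h2⟩ := hX.cop.hat_spec (g := ⟨g, hg⟩) (Subtype.ext (by simpa using hN))
  exact ⟨by rw [h1], h2⟩

theorem OddExt.eq_cl {x : Γ} {g : GL D.Idx K} (hx : (σ x : GL D.Idx K) = g)
    (hN : x ^ T.expN = 1) : x = T.cl σ g := by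
  have hg : g ∈ T.G1 := hx ▸ (σ x).2
  rw [Tw.cl, dif_pos hg]
  exact hX.cop.eq_hat (Subtype.ext hx) hN

theorem OddExt.conj_cl (γ : Γ) {g : GL D.Idx K} (hg : g ∈ T.G1) (hN : g ^ T.expN = 1) :
    γ * T.cl σ g * γ⁻¹ = T.cl σ ((σ γ : GL D.Idx K) * g * (σ γ : GL D.Idx K)⁻¹) := by
  obtain ⟨h1, h2⟩ := hX.cl_spec hg hN
  exact hX.eq_cl (by simp [h1]) (by rw [conj_pow, h2, mul_one, mul_inv_cancel])

theorem OddExt.cl_one : T.cl σ 1 = 1 := (hX.eq_cl (by simp) (one_pow _)).symm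

theorem OddExt.cl_inv {g : GL D.Idx K} (hg : g ∈ T.G1) (hN : g ^ T.expN = 1) :
    T.cl σ g⁻¹ = (T.cl σ g)⁻¹ := by
  obtain ⟨h1, h2⟩ := hX.cl_spec hg hN
  exact (hX.eq_cl (by simp [h1]) (by rw [inv_pow, h2, inv_one])).symm

theorem OddExt.cl_mul {S : Subgroup (GL D.Idx K)} (hS : S ≤ T.G1) (hc : Nat.card S ∣ T.expN)
    {g h : GL D.Idx K} (hg : g ∈ S) (hh : h ∈ S) :
    T.cl σ (g * h) = T.cl σ g * T.cl σ h := by
  rw [Tw.cl, Tw.cl, Tw.cl, dif_pos (mul_mem (hS hg) (hS hh)), dif_pos (hS hg), dif_pos (hS hh)]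
  exact hX.cop.hat_mul (S := S.subgroupOf T.G1)
    (by rwa [Nat.card_congr (Subgroup.subgroupOfEquivOfLe hS).toEquiv])
    (g := ⟨g, hS hg⟩) (h := ⟨h, hS hh⟩) (Subgroup.mem_subgroupOf.2 hg)
    (Subgroup.mem_subgroupOf.2 hh)

theorem OddExt.cl_mulB {g h : GL D.Idx K} (hg : g ∈ D.borelSubgroup K ⊓ T.G1)
    (hh : h ∈ D.borelSubgroup K ⊓ T.G1) : T.cl σ (g * h) = T.cl σ g * T.cl σ h :=
  hX.cl_mul inf_le_right dvd_rfl hg hh

theorem OddExt.cl_nD_mul (a b : DihedralGroup 8) :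
    T.cl σ (nD K a) * T.cl σ (nD K b) = T.cl σ (nD K (a * b)) := by
  rw [← T.nD_mul]
  refine (hX.cl_mul (S := T.nHom.range) ?_ T.natCard_nHom ⟨a, rfl⟩ ⟨b, rfl⟩).symm
  rintro _ ⟨d, rfl⟩
  exact T.nD_mem d

theorem OddExt.cl_nJ (j : Bool) : T.cl σ (nJ K j) * T.cl σ (nJ K j) = 1 := by
  rw [T.nJ_eq j, hX.cl_nD_mul, dJ_sq, nD_one, hX.cl_one]

theorem OddExt.cl_nJ_inv (j : Bool) : (T.cl σ (nJ K j))⁻¹ = T.cl σ (nJ K j) :=
  inv_eq_of_mul_eq_one_right (hX.cl_nJ j)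

theorem OddExt.conj_nD (d : DihedralGroup 8) {g : GL D.Idx K} (hg : g ∈ T.G1)
    (hN : g ^ T.expN = 1) :
    (T.cl σ (nD K d))⁻¹ * T.cl σ g * T.cl σ (nD K d) = T.cl σ ((nD K d)⁻¹ * g * nD K d) := by
  have := hX.conj_cl (T.cl σ (nD K d))⁻¹ hg hN
  rw [inv_inv] at this
  rw [this, map_inv, Subgroup.coe_inv, (hX.cl_spec (T.nD_mem d) (T.pow_expN_nD d)).1, inv_inv]

theorem OddExt.conj_nJ (j : Bool) {g : GL D.Idx K} (hg : g ∈ T.G1) (hN : g ^ T.expN = 1) :
    T.cl σ (nJ K j) * T.cl σ g * T.cl σ (nJ K j) = T.cl σ (nJ K j * g * nJ K j) := by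
  have := hX.conj_cl (T.cl σ (nJ K j)) hg hN
  rw [hX.cl_nJ_inv] at this
  rw [this, (hX.cl_spec (T.nJ_mem j) (T.nJ_eq j ▸ T.pow_expN_nD _)).1, T.nJ_inv]

variable [Finite Γ]

/-- The lifted rank one relation. -/
theorem OddExt.rank_one (hpN : ¬ p ∣ T.expN) (j : Bool) {y : GL D.Idx K}
    (hy : y ∈ T.uF (clsS j) 0) {b w : GL D.Idx K} (hb : b ∈ D.borelSubgroup K ⊓ T.G1)
    (hw : w ∈ T.uF (clsS j) 0) (e : nJ K j * y * nJ K j = b * nJ K j * w) :
    T.cl σ (nJ K j) * T.cl σ y * T.cl σ (nJ K j) = T.cl σ b * T.cl σ (nJ K j) * T.cl σ w := by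
  set n := nJ K j with hn
  set B := D.borelSubgroup K ⊓ T.G1 with hB
  have hXB : T.uF (clsS j) 0 ≤ B := fun x hx => T.U1_le_B (T.uF_le_U1 (clsS_set j) 0 hx)
  have tB : ∀ {g}, g ∈ B → g ∈ T.G1 ∧ g ^ T.expN = 1 := fun {g} hg =>
    ⟨(Subgroup.mem_inf.1 hg).2, T.pow_expN_of_mem_B hg⟩
  have hσn : (σ (T.cl σ n) : GL D.Idx K) = n :=
    (hX.cl_spec (T.nJ_mem j) (T.nJ_eq j ▸ T.pow_expN_nD _)).1
  have hσB : ∀ {g}, g ∈ B → (σ (T.cl σ g) : GL D.Idx K) = g := fun hg =>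
    (hX.cl_spec (tB hg).1 (tB hg).2).1
  set Z := T.cl σ n * T.cl σ y * T.cl σ n with hZ
  set R := T.cl σ b * T.cl σ n * T.cl σ w with hR
  set δ := R⁻¹ * Z with hδ
  have hδ1 : σ δ = 1 := by
    have h : σ R = σ Z := Subtype.ext (by
      simp [hR, hZ, hσn, hσB hb, hσB (hXB hy), hσB (hXB hw), e])
    rw [hδ, map_mul, map_inv, h, inv_mul_cancel]
  have hZR : Z = R * δ := by rw [hδ]; group
  have hδc : ∀ x, Commute δ x := fun x => commute_of_mem_ker σ hX.cop.central hδ1 x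
  suffices δ = 1 by rw [hZR, this, mul_one]
  cases j
  · -- the class consists of involutions
    obtain ⟨t, rfl⟩ := T.mem_clsS_false.1 hy
    have hinv : (T.pairE false t)⁻¹ = T.pairE false t := by
      refine inv_eq_of_mul_eq_one_right ?_
      have hc : Commute (x K (rt 24) t) (x K (rt 33) (T.θ t)) := commute_24_33 _ _
      simp only [Tw.pairE, Bool.false_eq_true, if_false]
      calc x K (rt 33) (T.θ t) * x K (rt 24) t * (x K (rt 33) (T.θ t) * x K (rt 24) t)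
          = x K (rt 33) (T.θ t) * (x K (rt 24) t * x K (rt 33) (T.θ t)) * x K (rt 24) t := by group
        _ = (x K (rt 33) (T.θ t) * x K (rt 33) (T.θ t)) * (x K (rt 24) t * x K (rt 24) t) := by
          rw [hc.eq]; group
        _ = 1 := by simp [x, X_mul, CharTwo.add_self_eq_zero, X_zero]
    have ha : w * b ∈ B := mul_mem (hXB hw) hb
    have h2 : n * (w * b) * n = (w * b)⁻¹ := by
      have h3 : b * n * w = w⁻¹ * n * b⁻¹ := by
        have h4 : (n * T.pairE false t * n)⁻¹ = n * T.pairE false t * n := by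
          rw [mul_inv_rev, mul_inv_rev, T.nJ_inv, hinv, mul_assoc]
        rw [e, mul_inv_rev, mul_inv_rev, T.nJ_inv] at h4
        rw [← h4, mul_assoc]
      calc n * (w * b) * n = n * w * b * n := by group
        _ = b⁻¹ * (b * n * w) * b * n := by group
        _ = b⁻¹ * w⁻¹ * (n * n) := by rw [h3]; group
        _ = _ := by rw [T.nJ_sq]; group
    have h5 : R = (T.cl σ w)⁻¹ * T.cl σ n * (T.cl σ b)⁻¹ := by
      have h6 := hX.conj_nJ false (g := w * b) (tB ha).1 (tB ha).2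
      rw [← hn, h2, hX.cl_inv (tB ha).1 (tB ha).2, hX.cl_mulB (hXB hw) hb] at h6
      calc R = T.cl σ b * (T.cl σ n * (T.cl σ w * T.cl σ b) * T.cl σ n) *
            (T.cl σ n)⁻¹ * (T.cl σ b)⁻¹ := by rw [hR]; group
        _ = _ := by rw [h6, show (T.cl σ n)⁻¹ = T.cl σ n from hX.cl_nJ_inv false]; group
    have h7 : R⁻¹ = R := by
      conv_lhs => rw [h5, mul_inv_rev, mul_inv_rev, inv_inv, inv_inv, hX.cl_nJ_inv, ← mul_assoc]
    have h8 : Z⁻¹ = Z := by
      rw [hZ, mul_inv_rev, mul_inv_rev, hX.cl_nJ_inv,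
        ← hX.cl_inv (tB (hXB hy)).1 (tB (hXB hy)).2, hinv, mul_assoc]
    have h9 : δ ^ 2 = 1 := by
      rw [hZR, mul_inv_rev, h7, (hδc R).inv_left.eq] at h8
      rw [sq]
      exact eq_inv_iff_mul_eq_one.1 (mul_left_cancel h8).symm
    rw [← orderOf_eq_one_iff]
    exact Nat.eq_one_of_dvd_coprimes ((Nat.coprime_primes hX.prime Nat.prime_two).2 hX.two)
      (orderOf_dvd_of_pow_eq_one (hX.cop.exp δ hδ1)) (orderOf_dvd_of_pow_eq_one h9)
  · haveI : Fact p.Prime := ⟨hX.prime⟩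
    set π : Γ →* GL D.Idx K := T.G1.subtype.comp σ with hπ
    have hker : π.ker = σ.ker := by
      ext a
      simp [hπ, MonoidHom.mem_ker]
    set gens : Set Γ :=
      T.cl σ '' ((T.uF (clsS true) 0 : Set (GL D.Idx K)) ∪ {n} ∪ ↑(T.Lsz ⊓ B)) with hgens
    set S := Subgroup.closure gens with hS
    have hgen : ∀ g ∈ (T.uF (clsS true) 0 : Set (GL D.Idx K)) ∪ {n} ∪ ↑(T.Lsz ⊓ B),
        g ∈ T.G1 ∧ g ^ T.expN = 1 ∧ g ∈ T.Lsz := by
      rintro g ((hg | rfl) | hg)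
      · exact ⟨(tB (hXB hg)).1, (tB (hXB hg)).2, T.uF_le_Lsz hg⟩
      · exact ⟨T.nJ_mem true, by rw [hn, T.nJ_eq]; exact T.pow_expN_nD _, T.nJ_mem_Lsz⟩
      · exact ⟨(tB (Subgroup.mem_inf.1 hg).2).1, (tB (Subgroup.mem_inf.1 hg).2).2,
          (Subgroup.mem_inf.1 hg).1⟩
    have hbL : b ∈ T.Lsz := by
      have h := mul_mem (mul_mem (mul_mem (mul_mem T.nJ_mem_Lsz (T.uF_le_Lsz hy)) T.nJ_mem_Lsz)
        (inv_mem (T.uF_le_Lsz hw))) (inv_mem T.nJ_mem_Lsz)
      rwa [← hn, e, mul_inv_cancel_right, mul_inv_cancel_right] at h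
    have mem : ∀ g ∈ (T.uF (clsS true) 0 : Set (GL D.Idx K)) ∪ {n} ∪ ↑(T.Lsz ⊓ B),
        T.cl σ g ∈ S := fun g hg => Subgroup.subset_closure ⟨g, hg, rfl⟩
    have hn' := mem n (Or.inl (Or.inr rfl))
    have hδS : δ ∈ S := mul_mem (inv_mem (mul_mem (mul_mem
      (mem b (Or.inr (Subgroup.mem_inf.2 ⟨hbL, hb⟩))) hn') (mem w (Or.inl (Or.inl hw)))))
      (mul_mem (mul_mem hn' (mem y (Or.inl (Or.inl hy)))) hn')
    have hab : ∀ s (hs : s ∈ S), Abelianization.of (⟨s, hs⟩ : S) ^ T.expN = 1 := by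
      intro s hs
      induction hs using Subgroup.closure_induction with
      | mem s hs =>
        obtain ⟨g, hg, rfl⟩ := hs
        have h : (⟨T.cl σ g, mem g hg⟩ : S) ^ T.expN = 1 :=
          Subtype.ext (by simpa using (hX.cl_spec (hgen g hg).1 (hgen g hg).2.1).2)
        rw [← map_pow, h, map_one]
      | one => rw [show (⟨1, one_mem S⟩ : S) = 1 from rfl, map_one, one_pow]
      | mul a b ha hb iha ihb =>
        rw [show (⟨a * b, mul_mem ha hb⟩ : S) = ⟨a, ha⟩ * ⟨b, hb⟩ from rfl, map_mul, mul_pow,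
          iha, ihb, one_mul]
      | inv a ha iha =>
        rw [show (⟨a⁻¹, inv_mem ha⟩ : S) = (⟨a, ha⟩ : S)⁻¹ from rfl, map_inv, inv_pow, iha,
          inv_one]
    have hδd : δ ∈ ⁅S, S⁆ := by
      rw [← Subgroup.map_subtype_commutator]
      refine ⟨⟨δ, hδS⟩, ?_, rfl⟩
      rw [SetLike.mem_coe, ← Abelianization.ker_of, MonoidHom.mem_ker, ← orderOf_eq_one_iff]
      refine Nat.eq_one_of_dvd_coprimes hX.cop.cop (orderOf_dvd_of_pow_eq_one ?_)
        (orderOf_dvd_of_pow_eq_one (hab δ hδS))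
      rw [← map_pow, show (⟨δ, hδS⟩ : S) ^ p = 1 from
        Subtype.ext (by simpa using hX.cop.exp δ hδ1), map_one]
    have hmap : S.map π = T.Lsz := by
      rw [hS, MonoidHom.map_closure]
      refine le_antisymm ((Subgroup.closure_le _).2 ?_) ((Subgroup.closure_le _).2 ?_)
      · rintro _ ⟨_, ⟨g, hg, rfl⟩, rfl⟩
        show (σ (T.cl σ g) : GL D.Idx K) ∈ T.Lsz
        rw [(hX.cl_spec (hgen g hg).1 (hgen g hg).2.1).1]
        exact (hgen g hg).2.2
      · intro g hg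
        exact Subgroup.subset_closure ⟨_, ⟨g, Or.inl hg, rfl⟩,
          (hX.cl_spec (hgen g (Or.inl hg)).1 (hgen g (Or.inl hg)).2.1).1⟩
    obtain ⟨P⟩ : Nonempty (Sylow p ↥T.Lsz) := inferInstance
    haveI := T.isCyclic_sylow_Lsz hpN P
    obtain ⟨g, hg⟩ := IsCyclic.exists_generator (α := (P : Subgroup ↥T.Lsz))
    refine eq_one_of_cyclic (σ := π) (hker ▸ hX.cop.central)
      (show π δ = 1 by simp [hπ, hδ1]) hδd (g := ((g : ↥T.Lsz) : GL D.Idx K))
      (by rw [hmap]; exact (g : ↥T.Lsz).2) ?_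
    rw [hmap]
    have hP : (Subgroup.zpowers ((g : ↥T.Lsz) : GL D.Idx K)).subgroupOf T.Lsz = P := by
      refine le_antisymm ?_ ?_
      · intro a ha
        obtain ⟨k, hk⟩ := Subgroup.mem_zpowers_iff.1 (Subgroup.mem_subgroupOf.1 ha)
        rw [show a = (g : ↥T.Lsz) ^ k from Subtype.ext (by simp [hk])]
        exact zpow_mem g.2 k
      · intro a ha
        obtain ⟨k, hk⟩ := Subgroup.mem_zpowers_iff.1 (hg ⟨a, ha⟩)
        refine Subgroup.mem_subgroupOf.2 (Subgroup.mem_zpowers_iff.2 ⟨k, ?_⟩)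
        have h := congrArg (fun v : (P : Subgroup ↥T.Lsz) => ((v : ↥T.Lsz) : GL D.Idx K)) hk
        simpa using h
    rw [hP]
    exact Nat.Coprime.coprime_dvd_left (orderOf_dvd_of_pow_eq_one (hX.cop.exp δ hδ1))
      (hX.prime.coprime_iff_not_dvd.2 P.not_dvd_index)

/-- The kernel is trivial. -/
theorem OddExt.eq_one (hpN : ¬ p ∣ T.expN) (hcm : σ.ker ≤ commutator Γ) {z : Γ} (hz : σ z = 1) :
    z = 1 := by
  set B := D.borelSubgroup K ⊓ T.G1 with hB
  set L := T.cl σ with hL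
  have tB : ∀ {g}, g ∈ B → g ∈ T.G1 ∧ g ^ T.expN = 1 := fun {g} hg =>
    ⟨(Subgroup.mem_inf.1 hg).2, T.pow_expN_of_mem_B hg⟩
  have hσB : ∀ {g}, g ∈ B → (σ (L g) : GL D.Idx K) = g := fun hg =>
    (hX.cl_spec (tB hg).1 (tB hg).2).1
  have hσD : ∀ d, (σ (L (nD K d)) : GL D.Idx K) = nD K d := fun d =>
    (hX.cl_spec (T.nD_mem d) (T.pow_expN_nD d)).1
  let M : Γ → Prop := fun x => ∃ b ∈ B, ∃ d, ∃ b' ∈ B, x = L b * L (nD K d) * L b'
  have hleftB : ∀ {a x}, a ∈ B → M x → M (L a * x) := by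
    rintro a x ha ⟨b, hb, d, b', hb', rfl⟩
    exact ⟨a * b, mul_mem ha hb, d, b', hb', by rw [hL, hX.cl_mulB ha hb]; group⟩
  have hright : ∀ {a x}, a ∈ B → M x → M (x * L a) := by
    rintro a x ha ⟨b, hb, d, b', hb', rfl⟩
    exact ⟨b, hb, d, b' * a, mul_mem hb' ha, by rw [hL, hX.cl_mulB hb' ha]; group⟩
  have hD : ∀ d, M (L (nD K d)) := fun d =>
    ⟨1, one_mem _, d, 1, one_mem _, by rw [hL, hX.cl_one, one_mul, mul_one]⟩
  -- the class element between two monomial elements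
  have hcls : ∀ (j : Bool) (d : DihedralGroup 8) {y}, y ∈ T.uF (clsS j) 0 →
      M (L (nJ K j) * L y * L (nD K d)) := by
    intro j d y hy
    have hyB : y ∈ B := T.U1_le_B (T.uF_le_U1 (clsS_set j) 0 hy)
    have hmove : ∀ d', (∀ r, clsS j r = true → half D ≤ (dp d'⁻¹ r : ℕ)) → ∀ {y},
        y ∈ T.uF (clsS j) 0 → ∃ y' ∈ B, L y * L (nD K d') = L (nD K d') * L y' := by
      intro d' hup y hy
      have hy' := T.move_U1 (monBy_nD (K := K) d'⁻¹) (T.nD_fix d'⁻¹) hup hy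
      rw [← T.nD_inv, inv_inv] at hy'
      have hyB : y ∈ B := T.U1_le_B (T.uF_le_U1 (clsS_set j) 0 hy)
      refine ⟨_, T.U1_le_B hy', ?_⟩
      rw [hL, ← hX.conj_nD d' (tB hyB).1 (tB hyB).2]
      group
    rcases up_or_down j d⁻¹ with hup | hdown
    · obtain ⟨y', hy', e⟩ := hmove d hup hy
      rw [mul_assoc, e, ← mul_assoc, hL, T.nJ_eq, hX.cl_nD_mul, ← hL]
      exact hright hy' (hD _)
    · rcases eq_or_ne y 1 with rfl | hy1
      · rw [hL, hX.cl_one, mul_one, T.nJ_eq, hX.cl_nD_mul, ← hL]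
        exact hD _
      obtain ⟨b, hb, w, hw, e⟩ := T.exists_rank_one j hy hy1
      rw [T.nJ_inv] at e
      have h1 := hX.rank_one hpN j hy hb hw e
      rw [← hL] at h1
      have hup : ∀ r, clsS j r = true → half D ≤ (dp (dJ j * d)⁻¹ r : ℕ) := by
        intro r hr
        have h1 := hdown _ (cls_image j r hr)
        rw [dp_rev, Fin.val_rev] at h1
        have e2 : dp (d⁻¹ * dJ j) r = dp d⁻¹ (dp (dJ j) r) := by
          rw [← dP_apply, map_mul]; rfl
        rw [mul_inv_rev, inv_eq_of_mul_eq_one_right (dJ_sq j), e2]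
        have h2 := (dp d⁻¹ (dp (dJ j) r)).isLt
        have h3 := hW.good.two_half
        omega
      obtain ⟨w', hw', e'⟩ := hmove _ hup hw
      have h2 : L (nJ K j) * L y * L (nD K d) = L b * (L (nD K d) * L w') := by
        calc L (nJ K j) * L y * L (nD K d)
            = L (nJ K j) * L y * L (nJ K j) * (L (nJ K j))⁻¹ * L (nD K d) := by group
          _ = L b * L (nJ K j) * (L w * (L (nJ K j) * L (nD K d))) := by
            rw [h1, hL, hX.cl_nJ_inv]; group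
          _ = L b * (L (nJ K j) * L (nD K (dJ j * d))) * L w' := by
            rw [hL, T.nJ_eq, hX.cl_nD_mul, ← hL, e']; group
          _ = _ := by
            rw [hL, T.nJ_eq, hX.cl_nD_mul, ← mul_assoc (dJ j), dJ_sq, one_mul]; group
      rw [h2]
      exact hleftB hb (hright hw' (hD d))
  -- multiplication by a reflection
  have hleftn : ∀ (j : Bool) {x}, M x → M (L (nJ K j) * x) := by
    rintro j x ⟨b, hb, d, b', hb', rfl⟩
    obtain ⟨u, hu, h, hh, rfl⟩ := T.borel_mem hb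
    obtain ⟨v, hv, y, hy, rfl⟩ := T.exists_split_U1 j hu
    have hvU : v ∈ T.U1 := T.uF_le_U1 (complS_set j) 0 hv
    have hyU : y ∈ T.U1 := T.uF_le_U1 (clsS_set j) 0 hy
    have hvB := T.U1_le_B hvU
    have hyB := T.U1_le_B hyU
    have hhB := T.H1_le_B hh
    set n := nJ K j with hn
    have hv' : n * v * n ∈ B := by
      have := T.U1_le_B (T.move_U1 (monBy_nJ j) (T.nJ_fix j)
        (fun r hr => (set_root (complS_set j) ((dJ_facts j r).2 hr).1).1) hv)
      rwa [T.nJ_inv] at this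
    have hh' : (nD K d)⁻¹ * h * nD K d ∈ B := by
      have := T.H1_le_B (T.conj_H1 (inv_mem (nD_monomial d)) (inv_mem (T.nD_fix d)) hh)
      rwa [inv_inv] at this
    have e : L n * (L (v * y * h) * L (nD K d) * L b') =
        L (n * v * n) * (L n * L y * L (nD K d) * (L ((nD K d)⁻¹ * h * nD K d) * L b')) := by
      rw [hL, hX.cl_mulB (mul_mem hvB hyB) hhB, hX.cl_mulB hvB hyB, hn,
        ← hX.conj_nJ j (tB hvB).1 (tB hvB).2, ← hX.conj_nD d (tB hhB).1 (tB hhB).2]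
      calc _ = T.cl σ (nJ K j) * T.cl σ v * (T.cl σ (nJ K j) * T.cl σ (nJ K j)) * T.cl σ y *
            T.cl σ h * T.cl σ (nD K d) * T.cl σ b' := by rw [hX.cl_nJ]; group
        _ = _ := by group
    rw [e, ← hX.cl_mulB hh' hb']
    exact hleftB hv' (hright (mul_mem hh' hb') (hcls j d hy))
  -- the subgroup covering everything
  set gens : Set Γ := L '' (B : Set (GL D.Idx K)) ∪ Set.range fun j => L (nJ K j) with hgens
  have hM : ∀ x ∈ Subgroup.closure gens, M x := by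
    intro x hx
    induction hx using Subgroup.closure_induction_left with
    | one => rw [← hX.cl_one, ← nD_one (K := K)]; exact hD 1
    | mul_left a ha y hy ih =>
      rcases ha with ⟨g, hg, rfl⟩ | ⟨j, rfl⟩
      · exact hleftB hg ih
      · exact hleftn j ih
    | inv_mul_cancel a ha y hy ih =>
      rcases ha with ⟨g, hg, rfl⟩ | ⟨j, rfl⟩
      · rw [hL, ← hX.cl_inv (tB hg).1 (tB hg).2]
        exact hleftB (inv_mem hg) ih
      · show M ((T.cl σ (nJ K j))⁻¹ * y)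
        rw [hX.cl_nJ_inv]
        exact hleftn j ih
  have hLn : ∀ d, L (nD K d) ∈ Subgroup.closure gens := by
    have hg : ∀ j, L (nD K (dJ j)) ∈ Subgroup.closure gens := fun j =>
      Subgroup.subset_closure (Or.inr ⟨j, congrArg L (T.nJ_eq j)⟩)
    let nL : DihedralGroup 8 →* Γ :=
      MonoidHom.mk' (fun d => L (nD K d)) fun a b => (hX.cl_nD_mul a b).symm
    intro d
    show nL d ∈ _
    have hr : nL (DihedralGroup.r 1) ∈ Subgroup.closure gens := by
      rw [show (DihedralGroup.r 1 : DihedralGroup 8) = dJ false * dJ true by decide, map_mul]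
      exact mul_mem (hg false) (hg true)
    rcases d with i | i
    · rw [← ZMod.natCast_zmod_val i, ← DihedralGroup.r_one_pow, map_pow]
      exact pow_mem hr _
    · rw [show DihedralGroup.sr i = dJ false * DihedralGroup.r i by simp [dJ], map_mul,
        ← ZMod.natCast_zmod_val i, ← DihedralGroup.r_one_pow, map_pow]
      exact mul_mem (hg false) (pow_mem hr _)
  have hcover : ∀ γ, ∃ x ∈ Subgroup.closure gens, σ x = σ γ := by
    intro γ
    obtain ⟨d, u, hu, h, hh, v, hv, e⟩ := T.exists_form (T.G1_le_fix (σ γ).2)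
    have hb : u * h ∈ B := mul_mem (T.U1_le_B hu) (T.H1_le_B hh)
    have hb' : v ∈ B := T.U1_le_B (T.uF_le_U1 (invS_set d) 0 hv)
    exact ⟨L (u * h) * L (nD K d) * L v,
      mul_mem (mul_mem (Subgroup.subset_closure (Or.inl ⟨_, hb, rfl⟩)) (hLn d))
        (Subgroup.subset_closure (Or.inl ⟨_, hb', rfl⟩)),
      Subtype.ext (by simp [hσB hb, hσB hb', hσD, e])⟩
  have hle : commutator Γ ≤ Subgroup.closure gens := by
    rw [commutator_def, Subgroup.commutator_le]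
    intro a _ c _
    obtain ⟨x, hx, hxa⟩ := hcover a
    obtain ⟨x', hx', hxc⟩ := hcover c
    rw [commutator_congr σ hX.cop.central hxa.symm hxc.symm, commutatorElement_def]
    exact mul_mem (mul_mem (mul_mem hx hx') (inv_mem hx)) (inv_mem hx')
  obtain ⟨b, hb, d, b', hb', rfl⟩ := hM z (hle (hcm hz))
  have h1 : b * nD K d * b' = 1 := by
    have := congrArg Subtype.val hz
    simpa [hσB hb, hσB hb', hσD] using this
  have h2 : nD K d ∈ D.borelSubgroup K := by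
    rw [show nD K d = b⁻¹ * b'⁻¹ by
      calc nD K d = b⁻¹ * (b * nD K d * b') * b'⁻¹ := by group
        _ = _ := by rw [h1, mul_one]]
    exact mul_mem (inv_mem hb.1) (inv_mem hb'.1)
  have h3 := perm_of_mem_borel h2 (nD_monomial d) (monBy_nD d)
  rw [← map_one dP, dP_injective.eq_iff] at h3
  subst h3
  rw [nD_one, mul_one] at h1
  rw [hL, nD_one, hX.cl_one, mul_one, ← hX.cl_mulB hb hb', h1, hX.cl_one]

end CfsgLib.ReeF4
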