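import Cfsg.Agent.ReeF4Aut.Rigid
import Cfsg.Agent.SchurBound.Basic
import Cfsg.Agent.Schur.Basic

/-!
# Central extensions for odd primes dividing `q - 1`
-/

set_option autoImplicit false
set_option maxHeartbeats 1000000
set_option linter.style.haveILetI false

namespace CfsgLib.ReeF4

open Cfsg.Lie CfsgLib.Chevalley CfsgLib.SchurBound
open scoped MatrixGroups commutatorElement

theorem coroots₀ : ([33, 27, 25, 24].map fun r => [2, 3].map fun k =>
    (D.coroot.getD (dp (dJ false) (rt r)) #[]).getD k 0) =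
    [[0, 0], [0, 0], [1, 1], [0, -1]] := by
  decide +kernel

variable {K : Type*} [Field K] [CharP K 2] [Finite K] (T : Tw K)

/-- The reflection of the first orbit on the torus. -/
theorem Tw.n₀_conj_tor2 (a b : Kˣ) :
    n₀ K * T.tor2 (a, b) * (n₀ K)⁻¹ = T.tor2 (a, a * b⁻¹) := by
  have hrev : ∀ r : Root D, dP (dJ false) r.rev = (dP (dJ false) r).rev := fun r => by
    have := List.all_eq_true.1 (List.all_eq_true.1 dp_rho (dJ false) (mem_dList _)) r
      (List.mem_finRange r)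
    simp only [Bool.and_eq_true, decide_eq_true_eq] at this
    exact this.2
  have hh : T.tor2 (a, b) ∈ T.H1 := T.tor2_mem_H1 _
  obtain ⟨⟨a', b'⟩, e⟩ := T.exists_tor2 (T.conj_H1 (nJ_monomial (K := K) false) (T.nJ_fix false) hh)
  change T.tor2 (a', b') = n₀ K * T.tor2 (a, b) * (n₀ K)⁻¹ at e
  have e0 := e
  rw [T.tor2_apply, T.tor2_apply, torC_eq (mk4 (T.θU b) (T.θU a) a b),
    show ∀ n w x y z : GL D.Idx K, n * (w * (x * (y * z))) * n⁻¹ =
      (n * w * n⁻¹) * ((n * x * n⁻¹) * ((n * y * n⁻¹) * (n * z * n⁻¹))) from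
      fun n w x y z => by group,
    Mon.conj_hT mon_n₀ hrev, Mon.conj_hT mon_n₀ hrev, Mon.conj_hT mon_n₀ hrev,
    Mon.conj_hT mon_n₀ hrev, hT_eq_torC, hT_eq_torC, hT_eq_torC, hT_eq_torC, torC_mul, torC_mul,
    torC_mul] at e
  have e2 := congrFun (torC_injective e) (nd 2)
  have e3 := congrFun (torC_injective e) (nd 3)
  have hc := coroots₀
  simp [dP_apply] at hc e2 e3
  obtain ⟨⟨c0, c0'⟩, ⟨c1, c1'⟩, ⟨c2, c2'⟩, c3, c3'⟩ := hc
  obtain ⟨-, -, v2, v3⟩ := nd_vals.1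
  simp [mk4_apply, v2, v3, c0, c0', c1, c1', c2, c2', c3, c3'] at e2 e3
  rw [← e0, e2, e3]

variable {Γ : Type*} [Group Γ] [Finite Γ] (σ : Γ →* ↥T.G1)

/-- The kernel is trivial for an odd prime dividing `q - 1`. -/
theorem Tw.stem_torus (hs : Function.Surjective σ) (hc : σ.ker ≤ Subgroup.center Γ)
    (hcm : σ.ker ≤ commutator Γ) {p : ℕ} (hp : p.Prime) (hp2 : p ≠ 2)
    (hpq : p ∣ Nat.card K - 1) (hexp : ∀ z, σ z = 1 → z ^ p = 1) {z : Γ} (hz : σ z = 1) :
    z = 1 := by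
  haveI : Fact p.Prime := ⟨hp⟩
  set q := Nat.card K with hq
  have hq1 : 1 < q := Finite.one_lt_card
  set A := T.H1.subgroupOf T.G1 with hA
  set E := A.comap σ with hE
  -- the index is prime to `p`
  have hidx : ¬ p ∣ E.index := by
    rw [hE, Subgroup.index_comap_of_surjective _ hs]
    have hmul := A.card_mul_index
    rw [hA, Nat.card_congr (Subgroup.subgroupOfEquivOfLe T.H1_le_G1).toEquiv, T.natCard_H1,
      T.natCard_G1 rfl, ← hq, ← hA] at hmul
    have h4 : q ^ 4 - 1 = (q - 1) * ((q + 1) * (q ^ 2 + 1)) := by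
      obtain ⟨r, hr⟩ : ∃ r, q = r + 1 := ⟨q - 1, by omega⟩
      rw [hr, Nat.add_sub_cancel, Nat.sub_eq_iff_eq_add (Nat.one_le_pow _ _ (by omega))]
      ring
    have hA' : A.index = q ^ 12 * (q ^ 3 + 1) * ((q + 1) * (q ^ 2 + 1)) * (q ^ 6 + 1) := by
      refine mul_left_cancel₀ (pow_ne_zero 2 (show q - 1 ≠ 0 by omega)) ?_
      rw [hmul, h4]
      ring
    rw [hA', ← ZMod.natCast_eq_zero_iff]
    have hq' : (q : ZMod p) = 1 := by
      have h := (ZMod.natCast_eq_zero_iff _ p).2 hpq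
      rwa [Nat.cast_sub hq1.le, Nat.cast_one, sub_eq_zero] at h
    push_cast
    rw [hq']
    intro h
    norm_num at h
    have h' : ((16 : ℕ) : ZMod p) = 0 := by exact_mod_cast h
    rw [ZMod.natCast_eq_zero_iff, show (16 : ℕ) = 2 ^ 4 by norm_num] at h'
    exact hp2 ((Nat.prime_dvd_prime_iff_eq hp Nat.prime_two).1 (hp.dvd_of_dvd_pow h'))
  -- generators
  obtain ⟨g, hg⟩ := IsCyclic.exists_generator (α := Kˣ)
  let t : Kˣ × Kˣ →* ↥T.G1 := T.tor2.codRestrict T.G1 T.tor2_mem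
  obtain ⟨X, hX⟩ := hs (t (g, 1))
  obtain ⟨Y, hY⟩ := hs (t (1, g))
  obtain ⟨ν, hν⟩ := hs ⟨n₀ K, T.nJ_mem false⟩
  set e := ⁅X, Y⁆ with he
  have he1 : σ e = 1 := by
    rw [he, map_commutatorElement, hX, hY, ← map_commutatorElement,
      (commutatorElement_eq_one_iff_commute.2 (Commute.all _ _)), map_one]
  have hc' : ∀ {w}, σ w = 1 → ∀ y, Commute w y := fun hw y => commute_of_mem_ker σ hc hw y
  have hXY : X * Y * X⁻¹ = e * Y := by rw [he, commutatorElement_def]; group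
  have key : e = e⁻¹ := by
    have h1 : ν * e * ν⁻¹ = e := by rw [← ((hc' he1) ν).eq, mul_inv_cancel_right]
    have h2 : ν * e * ν⁻¹ = ⁅X * Y, Y⁻¹⁆ := by
      rw [he, conj_commutator]
      refine commutator_congr σ hc ?_ ?_
      · rw [map_mul, map_mul, map_inv, hν, hX, map_mul, hX, hY]
        refine Subtype.ext ?_
        show n₀ K * T.tor2 (g, 1) * (n₀ K)⁻¹ = T.tor2 (g, 1) * T.tor2 (1, g)
        rw [T.n₀_conj_tor2, ← map_mul]
        simp
      · rw [map_mul, map_mul, map_inv, map_inv, hν, hY]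
        refine Subtype.ext ?_
        show n₀ K * T.tor2 (1, g) * (n₀ K)⁻¹ = (T.tor2 (1, g))⁻¹
        rw [T.n₀_conj_tor2, ← map_inv]
        simp
    calc e = ⁅X * Y, Y⁻¹⁆ := by rw [← h2, h1]
      _ = (X * Y * X⁻¹)⁻¹ * Y := by rw [commutatorElement_def]; group
      _ = Y⁻¹ * e⁻¹ * Y := by rw [hXY, mul_inv_rev]
      _ = Y⁻¹ * (e⁻¹ * Y) := by group
      _ = Y⁻¹ * (Y * e⁻¹) := by rw [((hc' he1) Y).inv_left.eq]
      _ = e⁻¹ := by group
  have he' : e = 1 := by
    have h2 : e ^ 2 = 1 := by rw [sq]; exact eq_inv_iff_mul_eq_one.1 key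
    rw [← orderOf_eq_one_iff]
    exact Nat.eq_one_of_dvd_coprimes ((Nat.coprime_primes hp Nat.prime_two).2 hp2)
      (orderOf_dvd_of_pow_eq_one (hexp e he1)) (orderOf_dvd_of_pow_eq_one h2)
  have hXYc : Commute X Y := commutatorElement_eq_one_iff_commute.1 he'
  -- the preimage of the torus is abelian
  have hone : ∀ a ∈ E, ∃ i j : ℤ, ∃ w, σ w = 1 ∧ a = w * (X ^ i * Y ^ j) := by
    intro a ha
    obtain ⟨⟨u, v⟩, huv⟩ := T.exists_tor2 (Subgroup.mem_subgroupOf.1 (Subgroup.mem_comap.1 ha))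
    obtain ⟨i, rfl⟩ := Subgroup.mem_zpowers_iff.1 (hg u)
    obtain ⟨j, rfl⟩ := Subgroup.mem_zpowers_iff.1 (hg v)
    refine ⟨i, j, a * (X ^ i * Y ^ j)⁻¹, ?_, by group⟩
    rw [map_mul, map_inv, map_mul, map_zpow, map_zpow, hX, hY, ← map_zpow, ← map_zpow, ← map_mul,
      mul_inv_eq_one]
    refine Subtype.ext ?_
    rw [← huv]
    show _ = T.tor2 _
    simp
  have hab : ⁅E, E⁆ = ⊥ := by
    rw [eq_bot_iff, Subgroup.commutator_le]
    intro a ha b hb
    rw [Subgroup.mem_bot, commutatorElement_eq_one_iff_commute]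
    obtain ⟨i, j, w, hw, rfl⟩ := hone a ha
    obtain ⟨k, l, w', hw', rfl⟩ := hone b hb
    refine Commute.mul_left (hc' hw _) (Commute.mul_right (hc' hw' _).symm ?_)
    refine Commute.mul_left (Commute.mul_right ?_ ?_) (Commute.mul_right ?_ ?_)
    · exact ((Commute.refl X).zpow_left i).zpow_right k
    · exact (hXYc.zpow_left i).zpow_right l
    · exact (hXYc.symm.zpow_left j).zpow_right k
    · exact ((Commute.refl Y).zpow_left j).zpow_right l
  have h := Schur.mem_commutator_of_index_coprime E (hc hz) (hcm hz)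
    (Nat.Coprime.coprime_dvd_left (orderOf_dvd_of_pow_eq_one (hexp z hz))
      (hp.coprime_iff_not_dvd.2 hidx))
  rw [hab, Subgroup.mem_bot] at h
  exact h

end CfsgLib.ReeF4
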