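import Cfsg.Agent.ReeF4Schur.Two
import Cfsg.Agent.ReeF4Schur.Torus
import Cfsg.Agent.ReeF4Schur.Odd
import Cfsg.Agent.ReeF4Aut.Out

/-!
# The multiplier of the large Ree groups is trivial
-/

set_option autoImplicit false
set_option maxHeartbeats 1000000
set_option linter.style.haveILetI false

namespace CfsgLib.ReeF4

open Cfsg.Lie CfsgLib.Chevalley CfsgLib.SchurBound
open scoped MatrixGroups commutatorElement

universe u

variable {K : Type u} [Field K] [CharP K 2] [Finite K] (T : Tw K)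

theorem Tw.hasTrivialMultiplier {q : ℕ} (hq : Nat.card K = 2 ^ q) (hq3 : 3 ≤ q) :
    Cfsg.HasCyclicSchurMultiplier ↥T.G1 1 := by
  refine Schur.hasCyclicSchurMultiplier_one _ fun p hp hpG Γ _ _ σ hσ hexp => ?_
  obtain ⟨hs, hc, hcm⟩ := hσ
  have hexp' : ∀ z, σ z = 1 → z ^ p = 1 := fun z hz => hexp z hz
  rw [eq_bot_iff]
  intro z hz
  rw [MonoidHom.mem_ker] at hz
  rw [Subgroup.mem_bot]
  haveI : Fact p.Prime := ⟨hp⟩
  have h8 : 8 ≤ Nat.card K := by
    rw [hq, show (8 : ℕ) = 2 ^ 3 by norm_num]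
    exact Nat.pow_le_pow_right (by norm_num) hq3
  rcases eq_or_ne p 2 with rfl | hp2
  · set π : Γ →* GL D.Idx K := T.G1.subtype.comp σ with hπ
    have hk : ∀ {a}, π a = 1 ↔ σ a = 1 := fun {a} => by simp [hπ]
    have hX : TwoExt T π :=
      { central := fun a ha => hc (MonoidHom.mem_ker.2 (hk.1 ha))
        sq := fun a ha => by rw [← sq]; exact hexp' a (hk.1 ha)
        range := fun g hg => by
          obtain ⟨a, ha⟩ := hs ⟨g, hg⟩
          exact ⟨a, by simp [hπ, ha]⟩ }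
    obtain ⟨S, hS⟩ := T.exists_sylow hq (by omega)
    have hcomap : T.U1.comap π = (T.U1.subgroupOf T.G1).comap σ := by
      rw [hπ, ← Subgroup.comap_comap]; rfl
    refine hX.eq_one h8 (hk.2 hz) ?_
    refine Schur.mem_commutator_of_index_coprime _ (hc hz) (hcm hz) ?_
    rw [hcomap, Subgroup.index_comap_of_surjective _ hs, ← hS]
    exact Nat.Coprime.coprime_dvd_left (orderOf_dvd_of_pow_eq_one (hexp' z hz))
      (Nat.prime_two.coprime_iff_not_dvd.2 S.not_dvd_index)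
  by_cases hpq : p ∣ Nat.card K - 1
  · exact T.stem_torus σ hs hc hcm hp hp2 hpq hexp' hz
  have hpN : ¬ p ∣ T.expN := by
    rw [Tw.expN, T.natCard_B]
    intro h
    rcases hp.dvd_mul.1 h with h | h
    · rw [hq, ← pow_mul] at h
      exact hp2 ((Nat.prime_dvd_prime_iff_eq hp Nat.prime_two).1 (hp.dvd_of_dvd_pow h))
    · exact hpq (hp.dvd_of_dvd_pow h)
  exact (OddExt.eq_one ⟨⟨hs, hc, hexp', hp.coprime_iff_not_dvd.2 hpN⟩, hp, hp2⟩ hpN hcm hz)

end CfsgLib.ReeF4
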