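import Cfsg.Agent.ReeF4Aut.Rigid
import Mathlib.FieldTheory.Finite.Extension
import Mathlib.LinearAlgebra.Matrix.GeneralLinearGroup.Card
import Mathlib.LinearAlgebra.Matrix.ToLin

/-!
# The rank one subgroup of Suzuki type and its odd Sylow subgroups

The subgroup `L` generated by the class elements and their reflection leaves a span of four root
vectors invariant and acts on it faithfully on elements of order prime to `|B¹|`.
-/

set_option autoImplicit false
set_option maxHeartbeats 1000000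
set_option linter.style.haveILetI false

namespace CfsgLib.ReeF4

open Cfsg.Lie CfsgLib.Chevalley
open scoped MatrixGroups

variable {K : Type*} [Field K] [CharP K 2] [Finite K] (T : Tw K)

/-- The rank one step: a conjugate of a class element in the big cell of the parabolic. -/
theorem Tw.exists_rank_one (j : Bool) {y : GL D.Idx K} (hy : y ∈ T.uF (clsS j) 0) (hy1 : y ≠ 1) :
    ∃ b ∈ D.borelSubgroup K ⊓ T.G1, ∃ w ∈ T.uF (clsS j) 0,
      nJ K j * y * (nJ K j)⁻¹ = b * nJ K j * w := by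
  set n := nJ K j with hn
  have hyb : y ∈ D.borelSubgroup K := T.U1_le_borel (T.uF_le_U1 (clsS_set j) 0 hy)
  set z := n * y * n⁻¹ with hz
  have hzf : z ∈ T.fix :=
    mul_mem (mul_mem (T.nJ_fix j) (Subgroup.mem_inf.1 hy).2) (inv_mem (T.nJ_fix j))
  have hzn : z ∈ D.negUnipotent K := by
    rw [negUnipotent_eq_rootGen hW.good]
    exact conj_uS (monBy_nJ j) (fun r hr => dJ_cls_neg j hr) (Subgroup.mem_inf.1 hy).1
  obtain ⟨e, u₀, hu₀, h₀, hh₀, w, hw, ez⟩ := T.exists_form hzf
  obtain ⟨w', hw', hzc⟩ := conj_mem_pJ j hyb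
  have hzc' : z ∈ cell hW hR K (θD e) := ez ▸ mem_cell_nD
    (mul_mem (T.U1_le_borel hu₀) (T.H1_le_borel hh₀))
    (T.U1_le_borel (T.uF_le_U1 (invS_set e) 0 hw)) e
  obtain rfl := cell_eq_of_mem hW hR hzc hzc'
  have he := List.all_eq_true.1 (pJ_cases j) e (mem_dList e)
  simp only [Bool.or_eq_true, decide_eq_true_eq, List.any_eq_true, Bool.and_eq_true,
    Bool.not_eq_true'] at he
  have hnc : ¬ ∃ r, r ∈ List.finRange D.nroots ∧ complS j r = true ∧
      complS j (dp e r) = false := fun ⟨r, _, h1, h2⟩ => by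
    have := hw' r h1
    rw [rootPerm_θD, dP_apply, h2] at this
    exact Bool.false_ne_true this
  rcases he.resolve_right hnc with rfl | rfl
  · exfalso
    have hzB : z ∈ D.borelSubgroup K := by
      rw [← SetLike.mem_coe, ← cell_one hW hR, ← map_one θD]
      exact hzc'
    have h1 : z ∈ D.borelSubgroup K ⊓ D.negUnipotent K := ⟨hzB, hzn⟩
    rw [borel_inf_neg hW, Subgroup.mem_bot] at h1
    refine hy1 ?_
    calc y = n⁻¹ * z * n := by rw [hz]; group
      _ = 1 := by rw [h1]; group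
  · have hw2 : w ∈ T.uF (clsS j) 0 := by
      rwa [show clsS j = invS (dJ j) from funext fun r => ((dJ_facts j r).1).symm]
    exact ⟨u₀ * h₀, mul_mem (T.U1_le_B hu₀) (T.H1_le_B hh₀), w, hw2,
      by rw [← ez, hn, T.nJ_eq j]⟩

theorem nJ_not_mem_borel (j : Bool) : nJ K j ∉ D.borelSubgroup K := by
  intro h
  have := perm_of_mem_borel h (nJ_monomial j) (monBy_nJ j)
  rw [← map_one dP, dP_injective.eq_iff] at this
  have hne : dJ j ≠ 1 := by cases j <;> decide +kernel
  exact hne this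

/-- The rank one subgroup of Suzuki type. -/
def Tw.Lsz : Subgroup (GL D.Idx K) :=
  Subgroup.closure ((T.uF (clsS true) 0 : Set (GL D.Idx K)) ∪ {nJ K true})

theorem Tw.uF_le_Lsz : T.uF (clsS true) 0 ≤ T.Lsz := fun _ h =>
  Subgroup.subset_closure (Or.inl h)

theorem Tw.nJ_mem_Lsz : nJ K true ∈ T.Lsz := Subgroup.subset_closure (Or.inr rfl)

theorem Tw.Lsz_le_G1 : T.Lsz ≤ T.G1 := by
  refine (Subgroup.closure_le _).2 ?_
  rintro g (hg | rfl)
  · exact T.uF_le_G1 (clsS_set true) 0 hg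
  · exact T.nJ_mem true

/-- The elements of `L` lie in two double cosets of `B¹`. -/
theorem Tw.mem_Lsz_cases {g : GL D.Idx K} (hg : g ∈ T.Lsz) :
    g ∈ D.borelSubgroup K ⊓ T.G1 ∨
      ∃ b ∈ D.borelSubgroup K ⊓ T.G1, ∃ w ∈ T.uF (clsS true) 0, g = b * nJ K true * w := by
  set n := nJ K true with hn
  set B := D.borelSubgroup K ⊓ T.G1 with hB
  set X := T.uF (clsS true) 0 with hX
  let M : GL D.Idx K → Prop := fun g => g ∈ B ∨ ∃ b ∈ B, ∃ w ∈ X, g = b * n * w
  have hn2 : n * n = 1 := T.nJ_sq true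
  have hninv : n⁻¹ = n := T.nJ_inv true
  have hXB : X ≤ B := fun x hx => T.U1_le_B (T.uF_le_U1 (clsS_set true) 0 hx)
  have hBn : ∀ {h}, h ∈ T.H1 → n * h * n ∈ T.H1 := fun {h} hh => by
    have := T.conj_H1 (nJ_monomial (K := K) true) (T.nJ_fix true) hh
    rwa [← hn, hninv] at this
  have hleftB : ∀ {a g}, a ∈ B → M g → M (a * g) := by
    rintro a g ha (h | ⟨b, hb, w, hw, rfl⟩)
    · exact Or.inl (mul_mem ha h)
    · exact Or.inr ⟨a * b, mul_mem ha hb, w, hw, by group⟩
  -- multiplication of a Borel element by the reflection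
  have hstep : ∀ {b}, b ∈ B → ∃ c ∈ B, ∃ x ∈ X, ∃ h ∈ T.H1, n * b = c * n * (x * h) := by
    intro b hb
    obtain ⟨u, hu, h, hh, rfl⟩ := T.borel_mem hb
    obtain ⟨v, hv, y, hy, rfl⟩ := T.exists_split_U1 true hu
    refine ⟨n * v * n⁻¹, T.U1_le_B (T.move_U1 (monBy_nJ true) (T.nJ_fix true)
      (fun r hr => (set_root (complS_set true) ((dJ_facts true r).2 hr).1).1) hv), y, hy, h, hh,
      by group⟩
  have hleftn : ∀ {g}, M g → M (n * g) := by
    rintro g (hb | ⟨b, hb, w, hw, rfl⟩)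
    · obtain ⟨c, hc, x, hx, h, hh, e⟩ := hstep hb
      refine Or.inr ⟨c * (n * h * n), mul_mem hc (T.H1_le_B (hBn hh)), h⁻¹ * x * h, ?_, ?_⟩
      · have := T.conj_uS_H1 (inv_mem hh) hx
        rwa [inv_inv] at this
      · rw [e]
        calc c * n * (x * h) = c * n * h * (h⁻¹ * x * h) := by group
          _ = c * (n * h * (n * n)) * (h⁻¹ * x * h) := by rw [hn2]; group
          _ = _ := by group
    · obtain ⟨c, hc, x, hx, h, hh, e⟩ := hstep hb
      have e' : n * (b * n * w) = c * (n * x * n) * ((n * h * n) * w) := by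
        rw [show n * (b * n * w) = (n * b) * n * w by group, e]
        calc c * n * (x * h) * n * w = c * n * x * h * n * w := by group
          _ = c * n * x * ((n * n) * h) * n * w := by rw [hn2]; group
          _ = _ := by group
      rcases eq_or_ne x 1 with rfl | hx1
      · refine Or.inl ?_
        rw [e', mul_one, hn2, mul_one]
        exact mul_mem hc (mul_mem (T.H1_le_B (hBn hh)) (hXB hw))
      obtain ⟨b', hb', w', hw', e''⟩ := T.exists_rank_one true hx hx1
      rw [← hn, hninv] at e''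
      set h' := n * h * n with hh'
      refine Or.inr ⟨c * b' * (n * h' * n), mul_mem (mul_mem hc hb') (T.H1_le_B (hBn (hBn hh))),
        h'⁻¹ * w' * h' * w, mul_mem ?_ hw, ?_⟩
      · have := T.conj_uS_H1 (inv_mem (hBn hh)) hw'
        rwa [inv_inv] at this
      · rw [e', e'']
        calc c * (b' * n * w') * (h' * w) = c * b' * n * h' * (h'⁻¹ * w' * h' * w) := by group
          _ = c * b' * n * h' * (n * n) * (h'⁻¹ * w' * h' * w) := by rw [hn2]; group
          _ = _ := by group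
  suffices H : M g from H
  induction hg using Subgroup.closure_induction_left with
  | one => exact Or.inl (one_mem _)
  | mul_left x hx y hy ih =>
    rcases hx with hx | rfl
    · exact hleftB (hXB hx) ih
    · exact hleftn ih
  | inv_mul_cancel x hx y hy ih =>
    rcases hx with hx | rfl
    · exact hleftB (inv_mem (hXB hx)) ih
    · rw [hninv]; exact hleftn ih

theorem Tw.natCard_Lsz :
    Nat.card ↥T.Lsz = Nat.card ↥(T.Lsz ⊓ (D.borelSubgroup K ⊓ T.G1)) * (Nat.card K ^ 2 + 1) := by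
  set n := nJ K true with hn
  set B := D.borelSubgroup K ⊓ T.G1 with hB
  set X := T.uF (clsS true) 0 with hX
  have hcardX : Nat.card ↥X = Nat.card K ^ 2 := by
    rw [hX, T.natCard_uF (clsS_set true), show nSlots (clsS true) = 2 by decide +kernel]
  rw [← hcardX, show Nat.card ↥X + 1 = Nat.card (Option ↥X) from
    (Finite.card_option).symm, ← Nat.card_prod]
  have hXB : X ≤ B := fun x hx => T.U1_le_B (T.uF_le_U1 (clsS_set true) 0 hx)
  let φ : ↥(T.Lsz ⊓ B) × Option ↥X → ↥T.Lsz := fun p =>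
    match p.2 with
    | none => ⟨p.1, (Subgroup.mem_inf.1 p.1.2).1⟩
    | some w => ⟨p.1 * n * w, mul_mem (mul_mem (Subgroup.mem_inf.1 p.1.2).1 T.nJ_mem_Lsz)
        (T.uF_le_Lsz w.2)⟩
  have hnot : ∀ {b b' : GL D.Idx K}, b ∈ B → b' ∈ B → ∀ {w}, w ∈ X → b * n * w ≠ b' := by
    intro b b' hb hb' w hw e
    apply nJ_not_mem_borel (K := K) true
    have : n = b⁻¹ * b' * w⁻¹ := by rw [← e]; group
    rw [← hn, this]
    exact (mul_mem (mul_mem (inv_mem hb) hb') (inv_mem (hXB hw))).1
  refine (Nat.card_eq_of_bijective φ ⟨?_, ?_⟩).symm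
  · rintro ⟨⟨b, hb⟩, o⟩ ⟨⟨b', hb'⟩, o'⟩ e
    have e' := congrArg Subtype.val e
    rcases o with _ | ⟨w, hw⟩ <;> rcases o' with _ | ⟨w', hw'⟩
    · obtain rfl : b = b' := e'
      rfl
    · exact absurd e'.symm (hnot hb'.2 hb.2 hw')
    · exact absurd e' (hnot hb.2 hb'.2 hw)
    · have e'' : b * n * w = b' * n * w' := e'
      have h1 : n * (w * w'⁻¹) * n⁻¹ ∈ D.borelSubgroup K ⊓ D.negUnipotent K := by
        refine Subgroup.mem_inf.2 ⟨?_, ?_⟩
        · rw [show n * (w * w'⁻¹) * n⁻¹ = b⁻¹ * b' by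
            calc n * (w * w'⁻¹) * n⁻¹ = b⁻¹ * (b * n * w) * w'⁻¹ * n⁻¹ := by group
              _ = _ := by rw [e'']; group]
          exact (Subgroup.mem_inf.1 (mul_mem (inv_mem (show b ∈ B from hb.2)) (show b' ∈ B from hb'.2))).1
        · rw [negUnipotent_eq_rootGen hW.good]
          exact conj_uS (monBy_nJ true) (fun r hr => dJ_cls_neg true hr)
            (Subgroup.mem_inf.1 (mul_mem hw (inv_mem hw'))).1
      rw [borel_inf_neg hW, Subgroup.mem_bot] at h1
      obtain rfl : w = w' := by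
        rw [← mul_inv_eq_one]
        calc w * w'⁻¹ = n⁻¹ * (n * (w * w'⁻¹) * n⁻¹) * n := by group
          _ = 1 := by rw [h1]; group
      obtain rfl : b = b' := mul_right_cancel (mul_right_cancel e'')
      rfl
  · rintro ⟨g, hg⟩
    rcases T.mem_Lsz_cases hg with h | ⟨b, hb, w, hw, rfl⟩
    · exact ⟨(⟨g, hg, h⟩, none), rfl⟩
    · have hbL : b ∈ T.Lsz := by
        have := mul_mem (mul_mem hg (inv_mem (T.uF_le_Lsz hw))) (inv_mem T.nJ_mem_Lsz)
        rwa [mul_inv_cancel_right, mul_inv_cancel_right] at this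
      exact ⟨(⟨b, hbL, hb⟩, some ⟨w, hw⟩), rfl⟩

/-! ### The four root vectors -/

/-- The four roots. -/
def omg : Fin 4 → Root D := ![rt 33, rt 34, rt 35, rt 37]

theorem omg_facts : (∀ r ∈ [27, 25, 28, 30, 20, 22, 19, 17], ∀ i : Fin 4, omg i ≠ rt r ∧
    (omg i : ℕ) ≠ D.negIdx.getD (rt r : ℕ) 0) ∧
    (∀ r ∈ [27, 25, 28, 30, 20, 22, 19, 17], ∀ i : Fin 4, ∀ u : Root D,
      (∃ k, omg k = u) ∨ (D.chainCoeff (rt r) (omg i) u).all (fun km => km.2 % 2 == 0) = true) ∧
    (∀ i k : Fin 4, i < k → ord (D := D) false (Sum.inr (omg i)) < ord false (Sum.inr (omg k))) ∧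
    ∀ r : Root D, clsS true r = true → (r : ℕ) ∈ [27, 25, 28, 30] := by
  decide +kernel

theorem omg_injective : Function.Injective omg := by decide +kernel

/-- The matrices leaving the span of the four root vectors invariant. -/
def omgStab (K : Type*) [Field K] : Submonoid (Matrix D.Idx D.Idx K) where
  carrier := {g | ∀ a, (∀ k, Sum.inr (omg k) ≠ a) → ∀ i, g a (Sum.inr (omg i)) = 0}
  one_mem' := fun a ha i => Matrix.one_apply_ne (ha i).symm
  mul_mem' := fun {g h} hg hh a ha i => by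
    rw [Matrix.mul_apply]
    refine Finset.sum_eq_zero fun c _ => ?_
    by_cases hc : ∀ k, Sum.inr (omg k) ≠ c
    · rw [hh c hc i, mul_zero]
    · push Not at hc
      obtain ⟨k, rfl⟩ := hc
      rw [hg a ha k, zero_mul]

/-- The block of the four roots. -/
def omgBlock (g : Matrix D.Idx D.Idx K) : Matrix (Fin 4) (Fin 4) K :=
  g.submatrix (fun i => Sum.inr (omg i)) (fun i => Sum.inr (omg i))

omit [CharP K 2] [Finite K] in
theorem omgBlock_mul {g h : Matrix D.Idx D.Idx K} (hh : h ∈ omgStab K) :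
    omgBlock (g * h) = omgBlock g * omgBlock h := by
  ext i j
  simp only [omgBlock, Matrix.submatrix_apply, Matrix.mul_apply]
  refine (Finset.sum_of_injOn (fun k => Sum.inr (omg k))
    (fun a _ b _ e => omg_injective (Sum.inr_injective e)) (fun a _ => by simp) (fun c _ hc => ?_)
    fun k _ => rfl).symm
  rw [hh c (fun k e => hc ⟨k, by simp, e⟩) j, mul_zero]

omit [Finite K] in
theorem x_mem_omgStab {r : ℕ} (hr : r ∈ [27, 25, 28, 30, 20, 22, 19, 17]) (t : K) :
    ((x K (rt r) t : GL D.Idx K) : Matrix D.Idx D.Idx K) ∈ omgStab K := by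
  intro a ha i
  obtain ⟨h1, h2, -, -⟩ := omg_facts
  rw [show x K (rt r) t = X hW.good (rt r) t from rfl, coe_X, ← x_eq_xR hW.good,
    ChevalleyDatum.x, dif_pos (rt r).isLt]
  simp only [ChevalleyDatum.xMat, Matrix.of_apply, Fin.eta, if_neg (h1 r hr i).1,
    if_neg (h1 r hr i).2]
  rcases a with k | u
  · rfl
  · have hu : u ≠ omg i := fun e => ha i (by rw [e])
    simp only [if_neg hu, zero_add]
    refine List.sum_eq_zero fun v hv => ?_
    obtain ⟨km, hkm, rfl⟩ := List.mem_map.1 hv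
    rcases h2 r hr i u with ⟨k, hk⟩ | h
    · exact absurd (by rw [hk]) (ha k)
    · have := List.all_eq_true.1 h km hkm
      rw [beq_iff_eq] at this
      rw [show ((km.2 : ℤ) : K) = 0 from
        (CharP.intCast_eq_zero_iff K 2 _).2 (Int.dvd_of_emod_eq_zero this), zero_mul]


/-- The integral matrix of the reflection has an odd entry above the diagonal of the block. -/
def chkAbove (w : List (ℕ × ℤ)) : Bool :=
  (wordSMat D w).2 && (List.finRange 4).any fun i => (List.finRange 4).any fun k =>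
    decide (i < k) && decide (rowVal (Trie.get (wordSMat D w).1 (D.rank + (omg i : ℕ)))
      (D.rank + (omg k : ℕ)) % 2 ≠ 0)

theorem n₁_above : chkAbove [(27, 1), (20, 1), (27, 1), (25, 1), (22, 1), (25, 1), (27, 1), (20, 1),
    (27, 1), (25, 1), (22, 1), (25, 1)] = true := by
  decide +kernel

omit [Finite K] in
theorem n₁_entry : ∃ i k : Fin 4, i < k ∧
    ((n₁ K : GL D.Idx K) : Matrix D.Idx D.Idx K) (Sum.inr (omg i)) (Sum.inr (omg k)) ≠ 0 := by
  have h := n₁_above
  simp only [chkAbove, Bool.and_eq_true, List.any_eq_true, decide_eq_true_eq] at h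
  obtain ⟨h1, i, -, k, -, hik, hne⟩ := h
  refine ⟨i, k, hik, ?_⟩
  have e : ∀ v : List (ℕ × ℤ), wordGL hW.good (v.map fun p => (p.1, (p.2 : K))) =
      Matrix.GeneralLinearGroup.map (Int.castRingHom K) (wordGL hW.good v) := fun v => by
    rw [wordGL_map]
    rfl
  rw [n₁_eq_word, e, coe_map_GL, ← wordSMat_spec hW.good _ h1, Matrix.map_apply,
    SMat.toMat_apply, eq_intCast]
  rw [show ((finSumFinEquiv (Sum.inr (omg i) : D.Idx) : Fin (D.rank + D.nroots)) : ℕ) =
      D.rank + (omg i : ℕ) by simp,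
    show ((finSumFinEquiv (Sum.inr (omg k) : D.Idx) : Fin (D.rank + D.nroots)) : ℕ) =
      D.rank + (omg k : ℕ) by simp, ne_eq, CharP.intCast_eq_zero_iff K 2]
  intro hd
  exact hne (Int.emod_eq_zero_of_dvd hd)

theorem Tw.Lsz_stab {g : GL D.Idx K} (hg : g ∈ T.Lsz) :
    (g : Matrix D.Idx D.Idx K) ∈ omgStab K ∧
      ((g⁻¹ : GL D.Idx K) : Matrix D.Idx D.Idx K) ∈ omgStab K := by
  let S : Subgroup (GL D.Idx K) :=
    { carrier := {g | (g : Matrix D.Idx D.Idx K) ∈ omgStab K ∧
        ((g⁻¹ : GL D.Idx K) : Matrix D.Idx D.Idx K) ∈ omgStab K}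
      one_mem' := ⟨by simpa using one_mem (omgStab K), by simpa using one_mem (omgStab K)⟩
      mul_mem' := fun {a b} ha hb => ⟨by rw [Units.val_mul]; exact mul_mem ha.1 hb.1,
        by rw [mul_inv_rev, Units.val_mul]; exact mul_mem hb.2 ha.2⟩
      inv_mem' := fun {a} ha => ⟨ha.2, by rw [inv_inv]; exact ha.1⟩ }
  have hx : ∀ r ∈ [27, 25, 28, 30, 20, 22, 19, 17], ∀ t : K, x K (rt r) t ∈ S := fun r hr t =>
    ⟨x_mem_omgStab hr t, by rw [X_inv]; exact x_mem_omgStab hr (-t)⟩
  have hle : T.Lsz ≤ S := by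
    refine (Subgroup.closure_le _).2 ?_
    rintro y (hy | rfl)
    · obtain ⟨t, u, rfl⟩ := T.mem_clsS_true.1 hy
      simp only [Tw.clsE, Tw.clsG, Bool.false_eq_true, if_false, SetLike.mem_coe]
      exact mul_mem (mul_mem (mul_mem (hx 27 (by simp) _) (hx 25 (by simp) _)) (hx 28 (by simp) _))
        (hx 30 (by simp) _)
    · have hc : ∀ b t u, T.clsE b t u ∈ S := fun b t u => by
        cases b <;> simp only [Tw.clsE, Tw.clsG, Bool.false_eq_true, if_false, if_true] <;>
          exact mul_mem (mul_mem (mul_mem (hx _ (by simp) _) (hx _ (by simp) _))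
            (hx _ (by simp) _)) (hx _ (by simp) _)
      rw [SetLike.mem_coe, show nJ K true = n₁ K from rfl, ← T.n₁_eq]
      exact mul_mem (mul_mem (hc _ _ _) (hc _ _ _)) (hc _ _ _)
  exact hle hg

omit [Finite K] [CharP K 2] in
/-- The Borel subgroup is triangular. -/
theorem borel_tri {g : GL D.Idx K} (hg : g ∈ D.borelSubgroup K) {a c : D.Idx} (hac : a ≠ c)
    (hle : ord false a ≤ ord false c) : (g : Matrix D.Idx D.Idx K) a c = 0 := by
  obtain ⟨u, hu, h, hh, rfl⟩ := (mem_borel_iff hW).1 hg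
  rw [posUnipotent_eq hW.good] at hu
  rw [diagonalSubgroup_eq_range hW] at hh
  obtain ⟨cc, rfl⟩ := hh
  have hu' := (isLower_of_mem hW.good hu).2 a c hac hle
  rw [Units.val_mul]
  refine (Matrix.mul_diagonal _ _ _ _).trans ?_
  rw [hu', zero_mul]

/-- The action of `L` on the four root vectors. -/
def Tw.omgHom : ↥T.Lsz →* GL (Fin 4) K :=
  MonoidHom.toHomUnits
    { toFun := fun g => omgBlock (((g : GL D.Idx K)) : Matrix D.Idx D.Idx K)
      map_one' := by
        rw [OneMemClass.coe_one, Units.val_one]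
        exact Matrix.submatrix_one _ fun a b e => omg_injective (Sum.inr_injective e)
      map_mul' := fun a b => by
        rw [Subgroup.coe_mul, Units.val_mul]
        exact omgBlock_mul (T.Lsz_stab b.2).1 }

theorem Tw.coe_omgHom (g : ↥T.Lsz) :
    ((T.omgHom g : GL (Fin 4) K) : Matrix (Fin 4) (Fin 4) K) =
      omgBlock (((g : GL D.Idx K)) : Matrix D.Idx D.Idx K) := rfl

/-- Faithful on elements of order prime to `|B¹|`. -/
theorem Tw.omgHom_ker {g : ↥T.Lsz} (hg : T.omgHom g = 1) :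
    (g : GL D.Idx K) ∈ D.borelSubgroup K ⊓ T.G1 := by
  refine (T.mem_Lsz_cases g.2).resolve_right ?_
  rintro ⟨b, hb, w, hw, e⟩
  have hbL : b ∈ T.Lsz := by
    have := mul_mem (mul_mem g.2 (inv_mem (T.uF_le_Lsz hw))) (inv_mem T.nJ_mem_Lsz)
    rwa [e, mul_inv_cancel_right, mul_inv_cancel_right] at this
  let B' : ↥T.Lsz := ⟨b, hbL⟩
  let W' : ↥T.Lsz := ⟨w, T.uF_le_Lsz hw⟩
  let N' : ↥T.Lsz := ⟨nJ K true, T.nJ_mem_Lsz⟩
  have e' : g = B' * N' * W' := Subtype.ext e
  have hN : T.omgHom N' = T.omgHom (B'⁻¹ * W'⁻¹) := by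
    rw [e', map_mul, map_mul] at hg
    rw [map_mul, map_inv, map_inv]
    calc T.omgHom N' = (T.omgHom B')⁻¹ * (T.omgHom B' * T.omgHom N' * T.omgHom W') *
          (T.omgHom W')⁻¹ := by group
      _ = _ := by rw [hg, mul_one]
  have hbw : b⁻¹ * w⁻¹ ∈ D.borelSubgroup K :=
    mul_mem (inv_mem hb.1) (inv_mem (T.U1_le_borel (T.uF_le_U1 (clsS_set true) 0 hw)))
  obtain ⟨i, k, hik, hne⟩ := n₁_entry (K := K)
  refine hne ?_
  have h1 := congrArg (fun M : GL (Fin 4) K => (M : Matrix (Fin 4) (Fin 4) K) i k) hN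
  simp only [T.coe_omgHom, omgBlock, Matrix.submatrix_apply] at h1
  refine (h1.trans ?_ :)
  exact borel_tri hbw (fun e => hik.ne (omg_injective (Sum.inr_injective e)))
    (omg_facts.2.2.1 i k hik).le

/-- A `p`-group embedded in a group with a cyclic subgroup of index prime to `p` is cyclic. -/
theorem isCyclic_of_embedding {p : ℕ} [Fact p.Prime] {P X : Type*} [Group P] [Group X] [Finite X]
    (hP : IsPGroup p P) (f : P →* X) (hf : Function.Injective f) (C : Subgroup X) [IsCyclic C]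
    (hC : ¬ p ∣ C.index) : IsCyclic P := by
  obtain ⟨Q⟩ : Nonempty (Sylow p C) := inferInstance
  have hidx : ¬ p ∣ ((Q : Subgroup C).map C.subtype).index := by
    rw [Subgroup.index_map_subtype]
    exact fun h => ((Fact.out : p.Prime).dvd_mul.1 h).elim Q.not_dvd_index hC
  let S : Sylow p X := (Q.2.map C.subtype).toSylow hidx
  obtain ⟨R, hR⟩ := (hP.of_equiv (MonoidHom.ofInjective hf)).exists_le_sylow
  haveI : IsCyclic (S : Subgroup X) := isCyclic_of_surjective _
    (((Q : Subgroup C).equivMapOfInjective _ C.subtype_injective).surjective)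
  haveI : IsCyclic (R : Subgroup X) :=
    isCyclic_of_surjective (Sylow.equiv S R) (Sylow.equiv S R).surjective
  exact isCyclic_of_injective ((Subgroup.inclusion hR).comp (MonoidHom.ofInjective hf).toMonoidHom)
    ((Subgroup.inclusion_injective hR).comp (MonoidHom.ofInjective hf).injective)

/-- The Sylow subgroups of `L` for primes prime to `|B¹|` are cyclic. -/
theorem Tw.isCyclic_sylow_Lsz {p : ℕ} [hp : Fact p.Prime]
    (hpN : ¬ p ∣ Nat.card ↥(D.borelSubgroup K ⊓ T.G1)) (P : Sylow p ↥T.Lsz) :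
    IsCyclic (P : Subgroup ↥T.Lsz) := by
  classical
  haveI : Fact (Nat.Prime 2) := ⟨Nat.prime_two⟩
  set B := D.borelSubgroup K ⊓ T.G1 with hB
  by_cases hpL : p ∣ Nat.card ↥T.Lsz
  swap
  · have : (P : Subgroup ↥T.Lsz) = ⊥ := by
      obtain ⟨k, hk⟩ := IsPGroup.iff_card.1 P.2
      refine Subgroup.card_eq_one.1 ?_
      rcases k with _ | k
      · simpa using hk
      · exact absurd ((dvd_pow_self p k.succ_ne_zero).trans
          (hk ▸ Subgroup.card_subgroup_dvd_card _)) hpL
    rw [this]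
    infer_instance
  set q := Nat.card K with hq
  have hq0 : 0 < q := Nat.card_pos
  have hq1 : ¬ p ∣ q - 1 := fun h => hpN (h.trans (by
    rw [T.natCard_B, ← hq]; exact (dvd_pow_self (q - 1) two_ne_zero).mul_left _))
  have hqp : ∀ i, ¬ p ∣ q ^ i := fun i h => hpN (by
    have := (Fact.out : p.Prime).dvd_of_dvd_pow h
    rw [T.natCard_B, ← hq]
    exact (this.trans (dvd_pow_self q (by norm_num))).mul_right _)
  have hd : p ∣ q ^ 2 + 1 := by
    rw [T.natCard_Lsz] at hpL
    refine ((Fact.out : p.Prime).dvd_mul.1 hpL).resolve_left fun h => hpN (h.trans ?_)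
    exact Subgroup.card_dvd_of_le inf_le_right
  -- injectivity
  let ι : ↥(P : Subgroup ↥T.Lsz) →* GL (Fin 4) K := T.omgHom.comp (P : Subgroup ↥T.Lsz).subtype
  have hι : Function.Injective ι := by
    refine (injective_iff_map_eq_one ι).2 fun g hg => ?_
    have hgB := T.omgHom_ker (g := (g : ↥T.Lsz)) hg
    obtain ⟨k, hk⟩ := P.2 g
    have h1 : orderOf g ∣ p ^ k := orderOf_dvd_of_pow_eq_one hk
    have h2 : orderOf g ∣ Nat.card ↥B := by
      rw [← Subgroup.orderOf_coe, ← Subgroup.orderOf_coe]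
      exact Subgroup.orderOf_dvd_natCard B hgB
    rw [← orderOf_eq_one_iff]
    exact Nat.eq_one_of_dvd_coprimes
      (Nat.Coprime.pow_left k ((Fact.out : p.Prime).coprime_iff_not_dvd.2 hpN)) h1 h2
  -- the cyclic subgroup of `GL₄`
  haveI := Fintype.ofFinite K
  let L := FiniteField.Extension K 2 4
  haveI : Finite L := Module.finite_of_finite K
  have hfr : Module.finrank K L = 4 := FiniteField.finrank_extension K 2 4
  let b := Module.finBasisOfFinrankEq K L hfr
  let f : Lˣ →* GL (Fin 4) K := Units.map (Algebra.leftMulMatrix b).toRingHom.toMonoidHom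
  have hf : Function.Injective f :=
    Units.map_injective (f := (Algebra.leftMulMatrix b).toRingHom.toMonoidHom)
      (Algebra.leftMulMatrix_injective b)
  haveI : IsCyclic f.range := isCyclic_of_surjective _ f.rangeRestrict_surjective
  have hc : Nat.card f.range = q ^ 4 - 1 := by
    rw [← Nat.card_congr (MonoidHom.ofInjective hf).toEquiv, Nat.card_units,
      FiniteField.natCard_extension]
  refine isCyclic_of_embedding P.2 ι hι f.range fun h => ?_
  have hGL : Nat.card (GL (Fin 4) K) =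
      (q ^ 4 - 1) * ∏ i ∈ Finset.univ.erase (0 : Fin 4), (q ^ 4 - q ^ (i : ℕ)) := by
    rw [Matrix.card_GL_field, ← Nat.card_eq_fintype_card, ← hq,
      ← Finset.mul_prod_erase Finset.univ _ (Finset.mem_univ (0 : Fin 4))]
    simp
  have hidx : f.range.index = ∏ i ∈ Finset.univ.erase (0 : Fin 4), (q ^ 4 - q ^ (i : ℕ)) := by
    have := f.range.card_mul_index
    rw [hc, hGL] at this
    have h1 : 1 < q := Finite.one_lt_card
    refine mul_left_cancel₀ ?_ this
    have h2 : 1 < q ^ 4 := Nat.one_lt_pow (by norm_num) h1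
    omega
  rw [hidx] at h
  obtain ⟨i, hi, hdi⟩ := ((Fact.out : p.Prime).prime.dvd_finsetProd_iff _).1 h
  have hi0 : (i : ℕ) ≠ 0 := fun e => Finset.ne_of_mem_erase hi (Fin.ext e)
  have := i.isLt
  rw [show q ^ 4 - q ^ (i : ℕ) = q ^ (i : ℕ) * (q ^ (4 - (i : ℕ)) - 1) by
    rw [Nat.mul_sub, mul_one, ← pow_add, Nat.add_sub_cancel' (by omega)]] at hdi
  rcases (Fact.out : p.Prime).dvd_mul.1 hdi with h' | h'
  · exact hqp _ h'
  have hz : ((q : ZMod p)) ^ 2 = -1 := by
    have h0 := (ZMod.natCast_eq_zero_iff _ p).2 hd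
    push_cast at h0
    exact eq_neg_of_add_eq_zero_left h0
  have hp2 : p ≠ 2 := by
    rintro rfl
    exact hqp 1 (by
      rw [pow_one, hq, Nat.card_eq_fintype_card]
      obtain ⟨r, -, hr⟩ := FiniteField.card K 2
      rw [hr]
      exact dvd_pow_self 2 r.ne_zero)
  have h0 := (ZMod.natCast_eq_zero_iff _ p).2 h'
  push_cast [Nat.cast_sub (Nat.one_le_pow _ q hq0)] at h0
  rw [sub_eq_zero] at h0
  have h2 : (2 : ZMod p) ≠ 0 := by
    intro e
    have h'' : p ∣ 2 := (ZMod.natCast_eq_zero_iff 2 p).1 (by exact_mod_cast e)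
    exact hp2 ((Nat.prime_dvd_prime_iff_eq Fact.out Nat.prime_two).1 h'')
  have hne : (q : ZMod p) ≠ 1 := fun e => by
    rw [e, one_pow] at hz
    exact h2 (by linear_combination hz)
  obtain h4 | h4 | h4 : 4 - (i : ℕ) = 1 ∨ 4 - (i : ℕ) = 2 ∨ 4 - (i : ℕ) = 3 := by omega
  all_goals rw [h4] at h0
  · exact hne (by rwa [pow_one] at h0)
  · exact h2 (by linear_combination hz - h0)
  · -- `q³ = -q`
    have h3 : (q : ZMod p) = -1 := by linear_combination -h0 + (q : ZMod p) * hz
    rw [h3] at hz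
    exact h2 (by linear_combination hz)

end CfsgLib.ReeF4
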