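import Cfsg.Agent.SchurBound.Basic
import Mathlib.Algebra.Group.Subgroup.Basic
import Mathlib.Algebra.Group.Nat.Even

/-!
# Retractions of preimages onto a central kernel of exponent two

A retraction on the preimage of `U'` extends to the preimage of `U` when commutators, squares and
conjugation are invisible to it and an element `t` of odd period averages `U` into `U'`.
-/

set_option autoImplicit false

namespace CfsgLib.SchurBound

open scoped commutatorElement

variable {Γ G : Type*} [Group Γ] [Group G]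

/-- A homomorphism from the preimage of `U` onto the kernel, the identity on the kernel. -/
structure Retr (σ : Γ →* G) (U : Subgroup G) (f : Γ → Γ) : Prop where
  mem : ∀ e, σ e ∈ U → f e ∈ σ.ker
  mul : ∀ e e', σ e ∈ U → σ e' ∈ U → f (e * e') = f e * f e'
  ker : ∀ z, σ z = 1 → f z = z

/-- The product of the conjugates of `a` by the first `n` powers of `t`. -/
def avg (t : Γ) (n : ℕ) (a : Γ) : Γ :=
  ((List.range n).map fun k => t ^ k * a * (t ^ k)⁻¹).prod

theorem avg_succ (t : Γ) (n : ℕ) (a : Γ) :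
    avg t (n + 1) a = avg t n a * (t ^ n * a * (t ^ n)⁻¹) := by
  simp [avg, List.range_succ]

theorem avg_zero (t a : Γ) : avg t 0 a = 1 := rfl

variable {σ : Γ →* G} {U U' : Subgroup G} {f : Γ → Γ}

theorem Retr.one (hf : Retr σ U f) : f 1 = 1 := hf.ker 1 (map_one σ)

theorem Retr.inv (hf : Retr σ U f) {e : Γ} (he : σ e ∈ U) : f e⁻¹ = (f e)⁻¹ := by
  refine eq_inv_of_mul_eq_one_left ?_
  rw [← hf.mul _ _ (by rw [map_inv]; exact inv_mem he) he, inv_mul_cancel, hf.one]

theorem Retr.eq_of_div (hf : Retr σ U f) {a b : Γ} (ha : σ a ∈ U) (hb : σ b ∈ U)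
    (h : f (a * b⁻¹) = 1) : f a = f b := by
  rw [hf.mul _ _ ha (by rw [map_inv]; exact inv_mem hb), hf.inv hb, mul_inv_eq_one] at h
  exact h

/-- The commutator of two elements over `U` is killed by a retraction. -/
theorem Retr.commutator (hf : Retr σ U f) (hc : σ.ker ≤ Subgroup.center Γ) {a b : Γ} (ha : σ a ∈ U)
    (hb : σ b ∈ U) : f ⁅a, b⁆ = 1 := by
  have hab : σ (a * b) ∈ U := by rw [map_mul]; exact mul_mem ha hb
  have habi : σ (a * b * a⁻¹) ∈ U := by rw [map_mul, map_inv]; exact mul_mem hab (inv_mem ha)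
  rw [commutatorElement_def, hf.mul _ _ habi (by rw [map_inv]; exact inv_mem hb),
    hf.mul _ _ hab (by rw [map_inv]; exact inv_mem ha), hf.mul _ _ ha hb, hf.inv ha, hf.inv hb]
  have h : Commute (f a) (f b) := (commute_of_mem_ker σ hc (hf.mem a ha) (f b))
  rw [h.eq, mul_inv_cancel_right, mul_inv_cancel]

/-- A retraction is invariant under conjugation by its own domain. -/
theorem Retr.conj (hf : Retr σ U f) (hc : σ.ker ≤ Subgroup.center Γ) {a e : Γ} (ha : σ a ∈ U)
    (he : σ e ∈ U) : f (a * e * a⁻¹) = f e := by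
  have hae : σ (a * e) ∈ U := by rw [map_mul]; exact mul_mem ha he
  rw [hf.mul _ _ hae (by rw [map_inv]; exact inv_mem ha), hf.mul _ _ ha he, hf.inv ha,
    (commute_of_mem_ker σ hc (hf.mem a ha) (f e)).eq, mul_inv_cancel_right]

/-- The extension of a retraction by averaging. -/
theorem Retr.extend (hf : Retr σ U' f) (hc : σ.ker ≤ Subgroup.center Γ)
    (hsq : ∀ z, σ z = 1 → z * z = 1) (hle : U' ≤ U)
    (hU' : ∀ a e, σ a ∈ U → σ e ∈ U' → σ (a * e * a⁻¹) ∈ U')
    (hinv : ∀ a e, σ a ∈ U → σ e ∈ U' → f (a * e * a⁻¹) = f e)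
    (hmem : ∀ a b, σ a ∈ U → σ b ∈ U → σ ⁅a, b⁆ ∈ U')
    (hcomm : ∀ a b, σ a ∈ U → σ b ∈ U → f ⁅a, b⁆ = 1)
    (t : Γ) (n : ℕ) (hn : Odd n) (htU : ∀ a, σ a ∈ U → σ (t * a * t⁻¹) ∈ U)
    (htU' : ∀ e, σ e ∈ U' → σ (t * e * t⁻¹) ∈ U')
    (htf : ∀ e, σ e ∈ U' → f (t * e * t⁻¹) = f e)
    (havg : ∀ a, σ a ∈ U → σ (avg t n a) ∈ U') :
    Retr σ U (fun a => f (avg t n a)) ∧ ∀ e, σ e ∈ U' → f (avg t n e) = f e := by
  have hpow : ∀ (k : ℕ) a, σ a ∈ U → σ (t ^ k * a * (t ^ k)⁻¹) ∈ U := by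
    intro k
    induction k with
    | zero => intro a ha; simpa using ha
    | succ k ih =>
      intro a ha
      have := htU _ (ih a ha)
      rw [pow_succ']
      simpa [mul_assoc] using this
  have hpow' : ∀ (k : ℕ) e, σ e ∈ U' →
      σ (t ^ k * e * (t ^ k)⁻¹) ∈ U' ∧ f (t ^ k * e * (t ^ k)⁻¹) = f e := by
    intro k
    induction k with
    | zero => intro a ha; simpa using ha
    | succ k ih =>
      intro e he
      have e1 : t ^ (k + 1) * e * (t ^ (k + 1))⁻¹ = t * (t ^ k * e * (t ^ k)⁻¹) * t⁻¹ := by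
        rw [pow_succ']; group
      rw [e1]
      exact ⟨htU' _ (ih e he).1, (htf _ (ih e he).1).trans (ih e he).2⟩
  have havgU : ∀ (k : ℕ) a, σ a ∈ U → σ (avg t k a) ∈ U := by
    intro k a ha
    induction k with
    | zero => rw [avg_zero, map_one]; exact one_mem _
    | succ k ih => rw [avg_succ, map_mul]; exact mul_mem ih (hpow k a ha)
  -- congruence modulo the kernel of `f`
  have htrans : ∀ {x y z : Γ}, σ (x * y⁻¹) ∈ U' ∧ f (x * y⁻¹) = 1 →
      σ (y * z⁻¹) ∈ U' ∧ f (y * z⁻¹) = 1 → σ (x * z⁻¹) ∈ U' ∧ f (x * z⁻¹) = 1 := by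
    rintro x y z ⟨h1, h2⟩ ⟨h3, h4⟩
    rw [show x * z⁻¹ = (x * y⁻¹) * (y * z⁻¹) by group]
    exact ⟨by rw [map_mul]; exact mul_mem h1 h3, by rw [hf.mul _ _ h1 h3, h2, h4, mul_one]⟩
  -- products of averages
  have hmul : ∀ (k : ℕ) a b, σ a ∈ U → σ b ∈ U →
      σ (avg t k (a * b) * (avg t k a * avg t k b)⁻¹) ∈ U' ∧
        f (avg t k (a * b) * (avg t k a * avg t k b)⁻¹) = 1 := by
    intro k a b ha hb
    induction k with
    | zero => simp [avg_zero, one_mem, hf.one]
    | succ k ih =>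
      set A := avg t k a
      set B := avg t k b
      set a' := t ^ k * a * (t ^ k)⁻¹
      set b' := t ^ k * b * (t ^ k)⁻¹
      have hab : t ^ k * (a * b) * (t ^ k)⁻¹ = a' * b' := by simp only [a', b']; group
      rw [avg_succ, avg_succ, avg_succ, hab]
      refine htrans (y := A * B * (a' * b')) ?_ ?_
      · rw [show avg t k (a * b) * (a' * b') * (A * B * (a' * b'))⁻¹ =
          avg t k (a * b) * (A * B)⁻¹ by group]
        exact ih
      · have hA : σ A ∈ U := havgU k a ha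
        have hB : σ B ∈ U := havgU k b hb
        rw [show A * B * (a' * b') * (A * a' * (B * b'))⁻¹ = A * ⁅B, a'⁆ * A⁻¹ by
          rw [commutatorElement_def]; group]
        have h1 := hmem B a' hB (hpow k a ha)
        exact ⟨hU' _ _ hA h1, (hinv _ _ hA h1).trans (hcomm _ _ hB (hpow k a ha))⟩
  -- an average over `U'`
  have hpowf : ∀ (k : ℕ) e, σ e ∈ U' → σ (avg t k e) ∈ U' ∧ f (avg t k e) = f e ^ k := by
    intro k e he
    induction k with
    | zero => simp [avg_zero, one_mem, hf.one]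
    | succ k ih =>
      rw [avg_succ, map_mul, hf.mul _ _ ih.1 (hpow' k e he).1, ih.2, (hpow' k e he).2, pow_succ]
      exact ⟨mul_mem ih.1 (hpow' k e he).1, rfl⟩
  have hext : ∀ e, σ e ∈ U' → f (avg t n e) = f e := by
    intro e he
    obtain ⟨k, rfl⟩ := hn
    rw [(hpowf _ e he).2, pow_succ, pow_mul, sq, hsq _ (hf.mem e he), one_pow, one_mul]
  refine ⟨⟨fun a ha => hf.mem _ (havg a ha), fun a b ha hb => ?_, fun z hz => ?_⟩, hext⟩
  · have hab : σ (a * b) ∈ U := by rw [map_mul]; exact mul_mem ha hb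
    have h2 : σ (avg t n a * avg t n b) ∈ U' := by
      rw [map_mul]; exact mul_mem (havg a ha) (havg b hb)
    exact (hf.eq_of_div (havg _ hab) h2 (hmul n a b ha hb).2).trans
      (hf.mul _ _ (havg a ha) (havg b hb))
  · exact (hext z (by rw [hz]; exact one_mem _)).trans (hf.ker z hz)

/-- The average commutes with conjugation by an element commuting with `t` modulo the centre. -/
theorem avg_conj (hc : σ.ker ≤ Subgroup.center Γ) {s t : Γ} (h : σ s * σ t = σ t * σ s) (n : ℕ)
    (a : Γ) : avg t n (s * a * s⁻¹) = s * avg t n a * s⁻¹ := by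
  induction n with
  | zero => simp [avg_zero]
  | succ n ih =>
    have hz : (s * t ^ n)⁻¹ * (t ^ n * s) ∈ Subgroup.center Γ := by
      refine hc ?_
      rw [MonoidHom.mem_ker, map_mul, map_inv, map_mul, map_mul, map_pow,
        ((show Commute (σ s) (σ t) from h).pow_right n).eq, inv_mul_cancel]
    have key : t ^ n * (s * a * s⁻¹) * (t ^ n)⁻¹ = s * (t ^ n * a * (t ^ n)⁻¹) * s⁻¹ := by
      set z := (s * t ^ n)⁻¹ * (t ^ n * s) with hzd
      have e : t ^ n * s = s * t ^ n * z := by rw [hzd, mul_inv_cancel_left]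
      calc t ^ n * (s * a * s⁻¹) * (t ^ n)⁻¹ = (t ^ n * s) * a * (t ^ n * s)⁻¹ := by group
        _ = s * t ^ n * (z * a * z⁻¹) * (s * t ^ n)⁻¹ := by rw [e]; group
        _ = _ := by
          rw [← (Subgroup.mem_center_iff.1 hz a)]
          group
    rw [avg_succ, avg_succ, ih, key]
    group

end CfsgLib.SchurBound
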