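import Cfsg.Agent.ReeF4Aut.Weights

/-!
# The twelve steps of `U¹` form a central series, split by slots
-/

set_option autoImplicit false
set_option maxHeartbeats 1000000

namespace CfsgLib.ReeF4

open Cfsg.Lie CfsgLib.Chevalley
open scoped MatrixGroups

variable {K : Type*} [Field K]

/-- Odd commutator terms lie above both roots. -/
def chkMax (r s : Root D) : Bool :=
  !isPos r || !isPos s || (D.commTerms r s).all fun c =>
    decide (c.2.1 % 2 = 0) || decide (max (pos r) (pos s) < pos (rt c.1))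

theorem comm_max : ∀ r s : Root D, chkMax r s = true := by decide +kernel

theorem slot_extra : (∀ i : Fin 12, ∀ r ∈ extra i, kind i = 1 ∧ (i : ℕ) < pos r) ∧
    (∀ r ∈ extra 2, 7 ≤ pos r) ∧ (∀ r ∈ extra 5, 7 ≤ pos r) ∧
    (cT 0 1 = [1, 2, 5, 6, 11]) := by
  decide +kernel

variable [CharP K 2]

theorem commRhs_mem_max {r s : Root D} (hr : allS r = true) (hs : allS s = true) {k : ℕ}
    (hk : k ≤ max (pos r) (pos s)) (t u : K) :
    commRhs hW.good r s t u ∈ uS K allS (k + 1) := by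
  refine Subgroup.list_prod_mem _ fun y hy => ?_
  simp only [List.map_map, List.mem_map, Function.comp_apply] at hy
  obtain ⟨c, hc, rfl⟩ := hy
  obtain ⟨h, h1, -, -⟩ := comm_term allS_ok hr hs hc
  rw [dif_pos h]
  have h2 := comm_max r s
  simp only [chkMax, show isPos r = true from hr, show isPos s = true from hs, Bool.not_true,
    Bool.false_or, List.all_eq_true, Bool.or_eq_true, decide_eq_true_eq] at h2
  rcases h2 c hc with he | hp
  · have h0 : (c.2.1 : K) = 0 :=
      (CharP.intCast_eq_zero_iff K 2 _).2 (Int.dvd_of_emod_eq_zero he)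
    simp [h0, X_zero, one_mem]
  · refine X_mem_rootGen _ (S := sTail allS (k + 1)) ⟨h1, ?_⟩ _
    rw [rt, dif_pos h] at hp
    omega

theorem comm_gen : ∀ (n k : ℕ), 12 ≤ k + n → ∀ s : Root D, allS s = true → ∀ (v : K),
    ∀ g ∈ uS K allS k, x K s v * g * (x K s v)⁻¹ * g⁻¹ ∈ uS K allS (k + 1) := by
  intro n
  induction n with
  | zero =>
    intro k hk s _ v g hg
    rw [uS_eq_bot allS_ok (by omega), Subgroup.mem_bot] at hg
    simp [hg, one_mem]
  | succ n ih =>
    intro k hk s hs v g hg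
    have hsnorm : ∀ {w : GL D.Idx K}, w ∈ uS K allS (k + 1) →
        x K s v * w * (x K s v)⁻¹ ∈ uS K allS (k + 1) := fun {w} hw => by
      have := mul_mem (uS_anti (Nat.le_succ _) (ih (k + 1) (by omega) s hs v w hw)) hw
      rwa [inv_mul_cancel_right] at this
    have hnorm : ∀ {a w : GL D.Idx K}, a ∈ uS K allS k → w ∈ uS K allS (k + 1) →
        a * w * a⁻¹ ∈ uS K allS (k + 1) := fun {a w} ha hw =>
      (Subgroup.mem_normalizer_iff.1 (le_normalizer_next allS_ok k ha) w).1 hw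
    induction hg using Subgroup.closure_induction with
    | mem y hy =>
      obtain ⟨r, hr, t, rfl⟩ := hy
      rcases eq_or_ne s r with rfl | hne
      · rw [x_mul, X_inv, x_mul, X_inv, x_mul, show v + t + -v + -t = (0 : K) by ring, x_zero]
        exact one_mem _
      have hne' : s ≠ r.rev := hW.good.rev_ne_of_key (b := false)
        (by simpa [key] using (set_root allS_ok hr.1).1) (by simpa [key] using (set_root allS_ok hs).1)
      have e := X_comm hW.toGoodComm r s hne hne' t v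
      have hC := commRhs_mem_max (K := K) hr.1 hs (k := k) (le_max_of_le_left hr.2) t v
      rw [show x K s v * x K r t = x K r t * x K s v * commRhs hW.good r s t v from e,
        show ∀ p q C : GL D.Idx K, p * q * C * q⁻¹ * p⁻¹ = p * (q * C * q⁻¹) * p⁻¹ from
          fun p q C => by group]
      exact hnorm (X_mem_rootGen _ (S := sTail allS k) hr t) (hsnorm hC)
    | one => simp [one_mem]
    | mul a b ha hb iha ihb =>
      rw [show ∀ z a b : GL D.Idx K, z * (a * b) * z⁻¹ * (a * b)⁻¹ =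
        (z * a * z⁻¹ * a⁻¹) * (a * (z * b * z⁻¹ * b⁻¹) * a⁻¹) from fun z a b => by group]
      exact mul_mem iha (hnorm ha ihb)
    | inv a ha iha =>
      rw [show ∀ z a : GL D.Idx K, z * a⁻¹ * z⁻¹ * a⁻¹⁻¹ =
        a⁻¹ * (z * a * z⁻¹ * a⁻¹)⁻¹ * a⁻¹⁻¹ from fun z a => by group]
      exact hnorm (inv_mem ha) (inv_mem iha)

/-- Commutators with `U` move the series down. -/
theorem comm_uS {k : ℕ} {u g : GL D.Idx K} (hu : u ∈ uS K allS 0) (hg : g ∈ uS K allS k) :
    u * g * u⁻¹ * g⁻¹ ∈ uS K allS (k + 1) := by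
  have hstep : ∀ (j : ℕ) (s : Root D), allS s = true → ∀ (v : K) (w : GL D.Idx K),
      w ∈ uS K allS j → x K s v * w * (x K s v)⁻¹ * w⁻¹ ∈ uS K allS (j + 1) :=
    fun j s hs v w hw => comm_gen 12 j (by omega) s hs v w hw
  have hnorm : uS K allS 0 ≤ Subgroup.normalizer (uS K allS (k + 1) : Set (GL D.Idx K)) := by
    refine rootGen_le _ fun s hs v => Subgroup.mem_normalizer_iff.2 fun w => ?_
    have key : ∀ (v : K) (w : GL D.Idx K), w ∈ uS K allS (k + 1) →
        x K s v * w * (x K s v)⁻¹ ∈ uS K allS (k + 1) := fun v w hw => by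
      have := mul_mem (uS_anti (Nat.le_succ _) (hstep (k + 1) s hs.1 v w hw)) hw
      rwa [inv_mul_cancel_right] at this
    refine ⟨key v w, fun h => ?_⟩
    have := key (-v) _ h
    rwa [show x K s (-v) = (X hW.good s v)⁻¹ from (X_inv _ _ _).symm,
      show ∀ q h : GL D.Idx K, q⁻¹ * (q * h * q⁻¹) * q⁻¹⁻¹ = h from
      fun q h => by group] at this
  suffices H : ∀ u ∈ uS K allS 0, ∀ g ∈ uS K allS k, u * g * u⁻¹ * g⁻¹ ∈ uS K allS (k + 1) from
    H u hu g hg
  clear hu hg u g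
  intro u hu g hg
  induction hu using Subgroup.closure_induction with
  | mem y hy =>
    obtain ⟨s, hs, v, rfl⟩ := hy
    exact hstep k s hs.1 v g hg
  | one => simp [one_mem]
  | mul a b ha hb iha ihb =>
    rw [show ∀ a b g : GL D.Idx K, a * b * g * (a * b)⁻¹ * g⁻¹ =
      (a * (b * g * b⁻¹ * g⁻¹) * a⁻¹) * (a * g * a⁻¹ * g⁻¹) from fun a b g => by group]
    exact mul_mem ((Subgroup.mem_normalizer_iff.1 (hnorm ha) _).1 ihb) iha
  | inv a ha iha =>
    rw [show ∀ a g : GL D.Idx K, a⁻¹ * g * a⁻¹⁻¹ * g⁻¹ =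
      a⁻¹ * (a * g * a⁻¹ * g⁻¹)⁻¹ * a⁻¹⁻¹ from fun a g => by group]
    exact (Subgroup.mem_normalizer_iff.1 (hnorm (inv_mem ha)) _).1 (inv_mem iha)

variable (T : Tw K)

theorem Tw.comm_uF {k : ℕ} {u g : GL D.Idx K} (hu : u ∈ T.uF allS 0) (hg : g ∈ T.uF allS k) :
    u * g * u⁻¹ * g⁻¹ ∈ T.uF allS (k + 1) := by
  obtain ⟨u1, u2⟩ := Subgroup.mem_inf.1 hu
  obtain ⟨g1, g2⟩ := Subgroup.mem_inf.1 hg
  exact Subgroup.mem_inf.2 ⟨comm_uS u1 g1,
    mul_mem (mul_mem (mul_mem u2 g2) (inv_mem u2)) (inv_mem g2)⟩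

theorem Tw.uF_anti {i j : ℕ} (h : i ≤ j) : T.uF allS j ≤ T.uF allS i :=
  inf_le_inf_right _ (uS_anti h)

theorem Tw.uF_zero_of {k : ℕ} {u : GL D.Idx K} (hu : u ∈ T.uF allS k) : u ∈ T.uF allS 0 :=
  T.uF_anti (Nat.zero_le k) hu

theorem Tw.conj_uF {k : ℕ} {u g : GL D.Idx K} (hu : u ∈ T.uF allS 0) (hg : g ∈ T.uF allS k) :
    u * g * u⁻¹ ∈ T.uF allS k := by
  have := mul_mem (T.uF_anti (Nat.le_succ k) (T.comm_uF hu hg)) hg
  rwa [inv_mul_cancel_right] at this

theorem Tw.uF_twelve {u : GL D.Idx K} {k : ℕ} (hk : 12 ≤ k) (hu : u ∈ T.uF allS k) : u = 1 := by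
  have := (Subgroup.mem_inf.1 hu).1
  rwa [uS_eq_bot allS_ok hk, Subgroup.mem_bot] at this

theorem Tw.lift_one_param (i : Fin 12) : T.lift i 1 = wev K (sw i) := by
  simp [Tw.lift, wev, sw, i.2, rt_coe, Function.comp_def, mul_assoc]

/-- A kernel-checked relation between the lifts of the parameter one. -/
theorem Tw.lift_relation : T.lift 0 1 * T.lift 1 1 =
    T.lift 1 1 * T.lift 2 1 * T.lift 5 1 * T.lift 6 1 * T.lift 11 1 * T.lift 0 1 := by
  have h := List.all_eq_true.1 (List.all_eq_true.1 conjT_ok 0 (by simp)) 1 (by simp)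
  simp only [Bool.or_eq_true, decide_eq_true_eq, Bool.and_eq_true] at h
  obtain ⟨⟨h1, -⟩, -⟩ := h.resolve_left (by omega)
  have e := congrArg (wev K) h1
  rw [wev_nf, wev_nf, slot_extra.2.2.2, wev_append, wev_append] at e
  simp only [sws, List.flatMap_cons, List.flatMap_nil, List.append_nil, wev_append] at e
  simp only [T.lift_one_param]
  rw [show ((0 : Fin 12) : ℕ) = 0 from rfl, show ((1 : Fin 12) : ℕ) = 1 from rfl,
    show ((2 : Fin 12) : ℕ) = 2 from rfl, show ((5 : Fin 12) : ℕ) = 5 from rfl,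
    show ((6 : Fin 12) : ℕ) = 6 from rfl, show ((11 : Fin 12) : ℕ) = 11 from rfl]
  simpa [mul_assoc] using e

variable [Finite K]

/-- The lifts of a slot multiply modulo the next step. -/
theorem Tw.lift_add (i : Fin 12) (a b : K) :
    ∃ z ∈ T.uF allS ((i : ℕ) + 1), T.lift i a * T.lift i b = T.lift i (a + b) * z := by
  obtain ⟨t', -, z, hz, e⟩ := T.exists_split_fix allS_ok i
    (mul_mem (T.lift_mem_uF allS_ok (slot_facts i).1 a) (T.lift_mem_uF allS_ok (slot_facts i).1 b))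
  refine ⟨z, hz, ?_⟩
  obtain ⟨w, hw, ea⟩ := T.lift_eq_lead allS_ok i a (slot_facts i).1
  obtain ⟨w', hw', eb⟩ := T.lift_eq_lead allS_ok i b (slot_facts i).1
  obtain ⟨y, hy, et⟩ := T.lift_eq_lead allS_ok i t' (slot_facts i).1
  have hlb : lead i (T.θ b) b ∈ uS K allS 0 :=
    uS_anti (Nat.zero_le _) (lead_mem allS_ok (Or.inl (slot_facts i).1))
  have hn : ∀ {g v : GL D.Idx K}, g ∈ uS K allS 0 → v ∈ uS K allS ((i : ℕ) + 1) →
      g⁻¹ * v * g ∈ uS K allS ((i : ℕ) + 1) := fun {g v} hg hv => by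
    have := mul_mem (uS_anti (Nat.le_succ _) (comm_uS (inv_mem hg) hv)) hv
    rwa [inv_mul_cancel_right, inv_inv] at this
  have hC := commRhs_mem_max (K := K) (slot_facts i).2.1 (slot_facts i).1 (k := (i : ℕ))
    (le_max_of_le_left (slot_facts i).2.2.2.2.2.2.2.1.ge) (T.θ b) a
  have e1 : lead i (T.θ a) a * lead i (T.θ b) b = lead i (T.θ a + T.θ b) (a + b) *
      ((x K (lb i) b)⁻¹ * commRhs hW.good (la i) (lb i) (T.θ b) a * x K (lb i) b) := by
    have hc := X_comm hW.toGoodComm (la i) (lb i) (slot_facts i).2.2.2.2.2.1.symm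
      (hW.good.rev_ne_of_key (b := false)
        (by simpa [key] using isPos_iff.1 (slot_facts i).2.1)
        (by simpa [key] using isPos_iff.1 (slot_facts i).1)) (T.θ b) a
    rw [lead, lead, lead, ← x_mul (la i), ← x_mul (lb i)]
    calc x K (la i) (T.θ a) * x K (lb i) a * (x K (la i) (T.θ b) * x K (lb i) b)
        = x K (la i) (T.θ a) * (X hW.good (lb i) a * X hW.good (la i) (T.θ b)) *
          x K (lb i) b := by group
      _ = _ := by rw [hc]; group
  have hxb : x K (lb i) b ∈ uS K allS 0 :=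
    X_mem_rootGen _ (S := sTail allS 0) ⟨(slot_facts i).1, Nat.zero_le _⟩ b
  have e2 : T.lift i a * T.lift i b = lead i (T.θ a + T.θ b) (a + b) *
      ((x K (lb i) b)⁻¹ * commRhs hW.good (la i) (lb i) (T.θ b) a * x K (lb i) b *
        ((lead i (T.θ b) b)⁻¹ * w * lead i (T.θ b) b) * w') := by
    rw [ea, eb, show lead i (T.θ a) a * w * (lead i (T.θ b) b * w') =
      lead i (T.θ a) a * lead i (T.θ b) b * ((lead i (T.θ b) b)⁻¹ * w * lead i (T.θ b) b) * w' by
      group, e1]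
    group
  have h2 : a + b = t' := (lead_unique (mul_mem (mul_mem (hn hxb hC) (hn hlb hw)) hw')
    (mul_mem hy (Subgroup.mem_inf.1 hz).1)
    (by rw [← e2, e, et, mul_assoc])).2
  rw [e, h2]

/-- Torus conjugates of a lift with extra roots at least `N`. -/
theorem Tw.tor2_conj_lift_far (p : Kˣ × Kˣ) (i : Fin 12) {N : ℕ} (hN : (i : ℕ) < N)
    (he : ∀ r ∈ extra i, N ≤ pos r) (t : K) :
    ∃ z ∈ T.uF allS N, T.tor2 p * T.lift i t * (T.tor2 p)⁻¹ = T.lift i ((T.chiS p i : K) * t) * z := by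
  obtain ⟨z, hz, e⟩ := T.tor2_conj_lift p i t
  obtain ⟨a, b⟩ := p
  have hex : ∀ s : K, ((extra i).map fun r => x K r s).prod ∈ uS K allS N := fun s =>
    Subgroup.list_prod_mem _ fun y hy => by
      obtain ⟨r, hr, rfl⟩ := List.mem_map.1 hy
      exact X_mem_rootGen _ (S := sTail allS N)
        ⟨(set_slot allS_ok (slot_facts i).1).2 r hr, he r hr⟩ _
  refine ⟨z, Subgroup.mem_inf.2 ⟨?_, (Subgroup.mem_inf.1 hz).2⟩, e⟩
  set c := mk4 (T.θU b) (T.θU a) a b with hc
  set χ : K := (T.chiS (a, b) i : K) with hχ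
  have hd : torC D c ∈ D.diagonalSubgroup K := by
    rw [diagonalSubgroup_eq_range hW]; exact ⟨c, rfl⟩
  have e' : lead i ((ChevSimple.chi c (la i) : K) * T.θ t) (χ * t) *
      (torC D c * ((extra i).map fun r => x K r (T.θ t * t)).prod * (torC D c)⁻¹) =
      lead i (T.θ (χ * t)) (χ * t) *
        (((extra i).map fun r => x K r (T.θ (χ * t) * (χ * t))).prod * z) := by
    have hx : ∀ r u, torC D c * x K r u * (torC D c)⁻¹ = x K r ((ChevSimple.chi c r : K) * u) :=
      ChevSimple.torC_conj_X hW.good c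
    rw [lead, lead, ← mul_assoc (x K (la i) (T.θ (χ * t)) * x K (lb i) (χ * t)),
      show x K (la i) (T.θ (χ * t)) * x K (lb i) (χ * t) *
        ((extra i).map fun r => x K r (T.θ (χ * t) * (χ * t))).prod = T.lift i (χ * t) from rfl,
      ← e, T.tor2_apply, ← hc, ← hx, show χ = (ChevSimple.chi c (lb i) : K) from rfl, ← hx, Tw.lift]
    group
  have hw1 := diag_conj_rootGen hW hd (hex (T.θ t * t))
  obtain ⟨h1, -⟩ := lead_unique (uS_anti (show (i : ℕ) + 1 ≤ N from hN) hw1)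
    (mul_mem (uS_anti (show (i : ℕ) + 1 ≤ N from hN) (hex _)) (Subgroup.mem_inf.1 hz).1) e'
  rw [h1] at e'
  have h2 := mul_left_cancel e'
  have := mul_mem (inv_mem (hex (T.θ (χ * t) * (χ * t)))) hw1
  rwa [h2, inv_mul_cancel_left] at this

end CfsgLib.ReeF4
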