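import Cfsg.Agent.ReeF4Schur.Series
import Cfsg.Agent.ReeF4Schur.Retract

/-!
# Central extensions with kernel of exponent two split over `U¹`
-/

set_option autoImplicit false
set_option maxHeartbeats 1000000

namespace CfsgLib.ReeF4

open Cfsg.Lie CfsgLib.Chevalley CfsgLib.SchurBound
open scoped MatrixGroups commutatorElement

/-- Slots of one ray: the first is the `t`-slot, the second its `u`-slot. -/
theorem sameRay_spec : ∀ i j : Fin 12, i < j → sameRay i j = true →
    kind i = 1 ∧ kind j = 2 ∧ mover i = mover j := by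
  decide +kernel

theorem ray_six : kind 6 = 1 ∧ kind 11 = 2 ∧ mover 6 = mover 11 ∧
    ∀ k : Fin 12, k ≠ 6 → k ≠ 11 → chkSep k 11 = true := by
  decide +kernel

variable {K : Type*} [Field K] [CharP K 2] [Finite K] (T : Tw K)
variable {Γ : Type*} [Group Γ] (π : Γ →* GL D.Idx K)

open Classical in
/-- A lift through `π`; `1` outside the range. -/
noncomputable def lif (g : GL D.Idx K) : Γ := if h : ∃ e, π e = g then h.choose else 1

/-- The hypotheses on an extension of the twisted group with kernel of exponent two. -/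
structure TwoExt (T : Tw K) (π : Γ →* GL D.Idx K) : Prop where
  central : π.ker ≤ Subgroup.center Γ
  sq : ∀ z, π z = 1 → z * z = 1
  range : T.G1 ≤ π.range

variable {T π} (hX : TwoExt T π) (h8 : 8 ≤ Nat.card K)

include hX

theorem TwoExt.π_lif {g : GL D.Idx K} (hg : g ∈ T.G1) : π (lif π g) = g := by
  have h : ∃ e, π e = g := hX.range hg
  rw [lif, dif_pos h]
  exact h.choose_spec

theorem TwoExt.π_lift (i : Fin 12) (t : K) : π (lif π (T.lift i t)) = T.lift i t :=
  hX.π_lif (T.lift_mem i t)

theorem TwoExt.central' {z : Γ} (hz : π z = 1) (y : Γ) : Commute z y :=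
  commute_of_mem_ker π hX.central hz y

omit [Finite K] in
/-- Two elements commute if their commutator is unchanged up to conjugation. -/
theorem TwoExt.commute_conj {x y x' y' g : Γ} (hx : π (g * x * g⁻¹) = π x')
    (hy : π (g * y * g⁻¹) = π y') (h : Commute x y) : Commute x' y' := by
  rw [← commutatorElement_eq_one_iff_commute, ← commutator_congr π hX.central hx hy,
    ← conj_commutator, commutatorElement_eq_one_iff_commute.2 h, mul_one, mul_inv_cancel]

omit hX [CharP K 2] in
theorem exists_good (h8 : 8 ≤ Nat.card K) : ∃ x : K, x ≠ 0 ∧ x + 1 ≠ 0 ∧ x + 1 ≠ x / (x + 1) := by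
  classical
  haveI := Fintype.ofFinite K
  by_contra hc
  push Not at hc
  rw [Nat.card_eq_fintype_card] at h8
  obtain ⟨a, -, ha⟩ := Finset.exists_mem_notMem_of_card_lt_card (s := ({0, -1} : Finset K))
    (t := (Finset.univ : Finset K))
    (lt_of_le_of_lt Finset.card_le_two (by rw [Finset.card_univ]; omega))
  simp only [Finset.mem_insert, Finset.mem_singleton, not_or] at ha
  obtain ⟨b, -, hb⟩ := Finset.exists_mem_notMem_of_card_lt_card
    (s := ({0, -1, a, -1 - a} : Finset K)) (t := (Finset.univ : Finset K))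
    (lt_of_le_of_lt Finset.card_le_four (by rw [Finset.card_univ]; omega))
  simp only [Finset.mem_insert, Finset.mem_singleton, not_or] at hb
  have eq : ∀ x : K, x ≠ 0 → x ≠ -1 → x ^ 2 + x + 1 = 0 := fun x h0 h1 => by
    have hx1 : x + 1 ≠ 0 := fun e => h1 (eq_neg_of_add_eq_zero_left e)
    have := hc x h0 hx1
    rw [eq_div_iff hx1] at this
    linear_combination this
  have h := eq a ha.1 ha.2
  have h' := eq b hb.1 hb.2.1
  have : (b - a) * (b - (-1 - a)) = 0 := by linear_combination h' - h
  rcases mul_eq_zero.1 this with e | e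
  exacts [hb.2.2.1 (sub_eq_zero.1 e), hb.2.2.2 (sub_eq_zero.1 e)]

/-! ### The last slot commutes with everything over `U¹` -/

include h8

theorem TwoExt.commute_last {x y : Γ} (hx : π x ∈ T.uF allS 0) (hy : π y ∈ T.uF allS 11) :
    Commute x y := by
  classical
  obtain ⟨s₀, hs₀⟩ := exists_unit_ne_one (K := K) (by omega)
  -- commutators land in the centre
  have hcen : ∀ {a b : Γ}, π a ∈ T.uF allS 0 → π b ∈ T.uF allS 11 → π ⁅a, b⁆ = 1 := by
    intro a b ha hb
    rw [map_commutatorElement, commutatorElement_def]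
    exact T.uF_twelve le_rfl (T.comm_uF ha hb)
  let C : Γ → Prop := fun a => ∀ b, π b ∈ T.uF allS 11 → ⁅a, b⁆ = 1
  have hCmul : ∀ {a b w : Γ}, π b ∈ T.uF allS 0 → π w ∈ T.uF allS 11 →
      ⁅a * b, w⁆ = ⁅a, w⁆ * ⁅b, w⁆ := by
    intro a b w hb hw
    rw [commutator_mul_left (hX.central' (hcen hb hw) a).symm,
      (hX.central' (hcen hb hw) ⁅a, w⁆).eq]
  have hCconj : ∀ {g a : Γ}, π g ∈ T.H1 → C a → C (g * a * g⁻¹) := by
    intro g a hg ha b hb
    have e : b = g * (g⁻¹ * b * g) * g⁻¹ := by group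
    rw [e, ← conj_commutator, ha _ ?_, mul_one, mul_inv_cancel]
    rw [map_mul, map_mul, map_inv]
    have := T.conj_uS_H1 (inv_mem hg) hb
    rwa [inv_inv] at this
  -- scaling argument for a separated slot
  have hsep : ∀ (i : Fin 12) (N : ℕ), (i : ℕ) < N → (∀ r ∈ extra i, N ≤ pos r) →
      chkSep i 11 = true → (∀ a, π a ∈ T.uF allS N → C a) → ∀ t, C (lif π (T.lift i t)) := by
    intro i N hN he hs hrest t b hb
    obtain ⟨p, hp1, hp2⟩ := T.exists_sep hs s₀
    obtain ⟨z, hz, ez⟩ := T.tor2_conj_lift_far p i hN he t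
    rw [hp1, Units.val_one, one_mul] at ez
    obtain ⟨β, -, w, hw, eb⟩ := T.exists_split_fix allS_ok 11 hb
    rw [T.uF_twelve (k := ((11 : Fin 12) : ℕ) + 1) le_rfl hw, mul_one] at eb
    set u := lif π (T.lift i t) with hu
    set g := lif π (T.tor2 p) with hg
    have hgπ : π g = T.tor2 p := hX.π_lif (T.tor2_mem p)
    have hu0 : π u ∈ T.uF allS 0 := by
      rw [hu, hX.π_lift]; exact T.uF_zero_of (T.lift_mem_uF allS_ok (slot_facts i).1 t)
    have hz0 : π (lif π z) = z := hX.π_lif (T.uF_le_G1 allS_ok N hz)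
    -- the pairing with `lift 11`
    let γ : K → Γ := fun c => ⁅u, lif π (T.lift 11 c)⁆
    have h11 : ∀ c, π (lif π (T.lift 11 c)) ∈ T.uF allS 11 := fun c => by
      rw [hX.π_lift]; exact T.lift_mem_uF allS_ok (slot_facts 11).1 c
    have hinv : ∀ c, γ ((T.chiS p 11 : K) * c) = γ c := by
      intro c
      obtain ⟨z', hz', ez'⟩ := T.tor2_conj_lift p 11 c
      rw [T.uF_twelve (k := ((11 : Fin 12) : ℕ) + 1) le_rfl hz', mul_one] at ez'
      have h1 := conj_commutator g u (lif π (T.lift 11 c))
      rw [commutator_congr π hX.central (x := g * u * g⁻¹) (x' := u * lif π z)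
          (y := g * lif π (T.lift 11 c) * g⁻¹)
          (y' := lif π (T.lift 11 ((T.chiS p 11 : K) * c)))
          (by rw [map_mul, map_mul, map_mul, map_inv, hgπ, hu, hX.π_lift, ez, hz0])
          (by rw [map_mul, map_mul, map_inv, hgπ, hX.π_lift, ez', hX.π_lift]),
        hCmul (a := u) (b := lif π z) (by rw [hz0]; exact T.uF_zero_of hz) (h11 _),
        hrest (lif π z) (by rw [hz0]; exact hz) _ (h11 _), mul_one,
        ← (hX.central' (hcen hu0 (h11 c)) g).eq, mul_inv_cancel_right] at h1
      exact h1.symm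
    have hadd : ∀ c c', γ (c + c') = γ c * γ c' := by
      intro c c'
      obtain ⟨z', hz', ez'⟩ := T.lift_add 11 c c'
      rw [T.uF_twelve (k := ((11 : Fin 12) : ℕ) + 1) le_rfl hz', mul_one] at ez'
      show ⁅u, lif π (T.lift 11 (c + c'))⁆ = _
      rw [commutator_congr π hX.central (x' := u)
        (y' := lif π (T.lift 11 c) * lif π (T.lift 11 c')) rfl
        (by rw [map_mul, hX.π_lift, hX.π_lift, hX.π_lift, ez'])]
      exact commutator_mul_right (hX.central' (hcen hu0 (h11 c')) _).symm
    have hne : (s₀ : K) + 1 ≠ 0 := fun e => hs₀ (Units.ext (CharTwo.add_eq_zero.1 e))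
    have key : γ β = 1 := by
      have h1 := hadd ((s₀ : K) * (β / ((s₀ : K) + 1))) (β / ((s₀ : K) + 1))
      rw [← add_one_mul, mul_div_cancel₀ β hne, ← hp2, hinv] at h1
      rw [h1]
      exact hX.sq _ (hcen hu0 (h11 _))
    rw [commutator_congr π hX.central (x' := u) (y' := lif π (T.lift 11 β)) rfl
      (by rw [hX.π_lift]; exact eb)]
    exact key
  have hC1 : ∀ a, π a = 1 → C a := fun a ha b _ =>
    commutatorElement_eq_one_iff_commute.2 (hX.central' ha b)
  have hstep : ∀ (i : Fin 12), (∀ a, π a ∈ T.uF allS ((i : ℕ) + 1) → C a) →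
      (∀ t, C (lif π (T.lift i t))) → ∀ a, π a ∈ T.uF allS i → C a := by
    intro i hrest hlift a ha b hb
    obtain ⟨t, -, z, hz, e⟩ := T.exists_split_fix allS_ok i ha
    have hz0 : π (lif π z) = z := hX.π_lif (T.uF_le_G1 allS_ok _ hz)
    rw [commutator_congr π hX.central (x' := lif π (T.lift i t) * lif π z) (y' := b)
      (by rw [map_mul, hX.π_lift, hz0, e]) rfl, hCmul (hz0.symm ▸ T.uF_zero_of hz) hb,
      hlift t b hb, hrest _ (hz0.symm ▸ hz) b hb, one_mul]
  -- the last slot
  have h11 : ∀ a, π a ∈ T.uF allS (11 : ℕ) → C a := by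
    refine hstep 11 (fun a ha => hC1 a (T.uF_twelve le_rfl ha)) fun t b hb => ?_
    obtain ⟨β, -, w, hw, eb⟩ := T.exists_split_fix allS_ok 11 hb
    rw [T.uF_twelve (k := ((11 : Fin 12) : ℕ) + 1) le_rfl hw, mul_one] at eb
    have hU : ∀ c, π (lif π (T.lift 11 c)) ∈ T.uF allS 11 := fun c => by
      rw [hX.π_lift]; exact T.lift_mem_uF allS_ok (slot_facts 11).1 c
    have hsum : ∀ c c', π (lif π (T.lift 11 (c + c'))) =
        π (lif π (T.lift 11 c) * lif π (T.lift 11 c')) := fun c c' => by
      obtain ⟨z', hz', ez'⟩ := T.lift_add 11 c c'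
      rw [map_mul, hX.π_lift, hX.π_lift, hX.π_lift, ez',
        T.uF_twelve (k := ((11 : Fin 12) : ℕ) + 1) le_rfl hz', mul_one]
    obtain ⟨x₀, hx₀, hx₁, hne⟩ := exists_good h8
    have key := pairing_eq_one
      (fun c d => ⁅lif π (T.lift 11 c), lif π (T.lift 11 d)⁆) (fun c c' d => by
        rw [commutator_congr π hX.central (hsum c c') rfl]
        exact hCmul (T.uF_zero_of (hU c')) (hU d)) (fun c d d' => by
        rw [commutator_congr π hX.central rfl (hsum d d')]
        exact commutator_mul_right (hX.central' (hcen (T.uF_zero_of (hU c)) (hU d')) _).symm)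
      id (fun μ c d hμ => by
        obtain ⟨s, hs⟩ := T.cK_surjective (kind 11) hμ
        have hg : π (lif π (T.slotTor 11 s)) = T.slotTor 11 s :=
          hX.π_lif (T.H1_le_G1 (T.slotTor_mem 11 s))
        have h1 := conj_commutator (lif π (T.slotTor 11 s)) (lif π (T.lift 11 c))
          (lif π (T.lift 11 d))
        rw [← (hX.central' (hcen (T.uF_zero_of (hU c)) (hU d)) _).eq, mul_inv_cancel_right] at h1
        rw [h1]
        exact commutator_congr π hX.central
          (by rw [map_mul, map_mul, map_inv, hg, hX.π_lift, hX.π_lift, T.slotTor_conj, hs])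
          (by rw [map_mul, map_mul, map_inv, hg, hX.π_lift, hX.π_lift, T.slotTor_conj, hs]; rfl))
      hx₀ hx₁ (by simpa using hne) t β
    rw [commutator_congr π hX.central (x' := lif π (T.lift 11 t)) (y' := lif π (T.lift 11 β)) rfl
      (by rw [hX.π_lift]; exact eb)]
    exact key
  -- slots above six
  have h7 : ∀ a, π a ∈ T.uF allS 7 → C a := by
    suffices H : ∀ n k, k + n = 11 → 7 ≤ k → ∀ a, π a ∈ T.uF allS k → C a from
      fun a ha => H 4 7 rfl le_rfl a ha
    intro n
    induction n with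
    | zero => intro k hk _ a ha; obtain rfl : k = 11 := hk; exact h11 a ha
    | succ n ih =>
      intro k hk h7k
      have hne : (⟨k, by omega⟩ : Fin 12) ≠ 6 ∧ (⟨k, by omega⟩ : Fin 12) ≠ 11 :=
        ⟨fun e => by have := congrArg Fin.val e; simp at this; omega,
          fun e => by have := congrArg Fin.val e; simp at this; omega⟩
      exact hstep ⟨k, by omega⟩ (ih (k + 1) (by omega) (by omega))
        (hsep ⟨k, by omega⟩ (k + 1) (Nat.lt_succ_self k)
          (fun r hr => (slot_extra.1 _ r hr).2) (ray_six.2.2.2 _ hne.1 hne.2)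
          (ih (k + 1) (by omega) (by omega)))
  -- slot six from the relation
  have h2 := hsep 2 7 (by decide) slot_extra.2.1 (ray_six.2.2.2 2 (by decide) (by decide)) h7 1
  have h5 := hsep 5 7 (by decide) slot_extra.2.2.1 (ray_six.2.2.2 5 (by decide) (by decide)) h7 1
  have h6 : ∀ t, C (lif π (T.lift 6 t)) := by
    have hone : C (lif π (T.lift 6 1)) := by
      intro b hb
      let L : Fin 12 → Γ := fun i => lif π (T.lift i 1)
      have hL : ∀ i, π (L i) = T.lift i 1 := fun i => hX.π_lift i 1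
      have hL0 : ∀ i, π (L i) ∈ T.uF allS 0 := fun i => by
        rw [hL]; exact T.uF_zero_of (T.lift_mem_uF allS_ok (slot_facts i).1 1)
      have e : ⁅L 0 * L 1, b⁆ = ⁅L 1 * L 2 * L 5 * L 6 * L 11 * L 0, b⁆ :=
        commutator_congr π hX.central (by simp only [map_mul, hL]; exact T.lift_relation) rfl
      rw [hCmul (hL0 1) hb, hCmul (hL0 0) hb, hCmul (hL0 11) hb, hCmul (hL0 6) hb, hCmul (hL0 5) hb,
        hCmul (hL0 2) hb, h2 b hb, h5 b hb, mul_one, mul_one,
        h11 (L 11) (by rw [hL]; exact T.lift_mem_uF allS_ok (slot_facts 11).1 1) b hb, mul_one,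
        (hX.central' (hcen (hL0 0) hb) ⁅L 1, b⁆).eq] at e
      exact mul_eq_left.1 (mul_right_cancel e).symm
    intro t
    rcases eq_or_ne t 0 with rfl | ht
    · exact hC1 _ (by rw [hX.π_lift, T.lift_zero])
    obtain ⟨s, hs⟩ := T.cK_surjective (kind 6) ht
    have hg : π (lif π (T.slotTor 6 s)) = T.slotTor 6 s :=
      hX.π_lif (T.H1_le_G1 (T.slotTor_mem 6 s))
    intro b hb
    have h := hCconj (hg.symm ▸ T.slotTor_mem 6 s) hone b hb
    rwa [commutator_congr π hX.central (x' := lif π (T.lift 6 t)) (y' := b)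
      (by rw [map_mul, map_mul, map_inv, hg, hX.π_lift, hX.π_lift, T.slotTor_conj, hs, mul_one])
      rfl] at h
  have h6' : ∀ a, π a ∈ T.uF allS 6 → C a := hstep 6 h7 h6
  have h0 : ∀ a, π a ∈ T.uF allS 0 → C a := by
    suffices H : ∀ n k, k + n = 6 → ∀ a, π a ∈ T.uF allS k → C a from fun a ha => H 6 0 rfl a ha
    intro n
    induction n with
    | zero => intro k hk a ha; obtain rfl : k = 6 := hk; exact h6' a ha
    | succ n ih =>
      intro k hk
      have hne : (⟨k, by omega⟩ : Fin 12) ≠ 6 ∧ (⟨k, by omega⟩ : Fin 12) ≠ 11 :=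
        ⟨fun e => by have := congrArg Fin.val e; simp at this; omega,
          fun e => by have := congrArg Fin.val e; simp at this; omega⟩
      exact hstep ⟨k, by omega⟩ (ih (k + 1) (by omega))
        (hsep ⟨k, by omega⟩ (k + 1) (Nat.lt_succ_self k)
          (fun r hr => (slot_extra.1 _ r hr).2) (ray_six.2.2.2 _ hne.1 hne.2)
          (ih (k + 1) (by omega)))
  exact commutatorElement_eq_one_iff_commute.1 (h0 x hx y hy)

/-- The two slots of a ray have commuting lifts. -/
theorem TwoExt.commute_ray {i j : Fin 12} (hij : i < j) (hs : sameRay i j = true) (a b : K) :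
    Commute (lif π (T.lift i a)) (lif π (T.lift j b)) := by
  obtain ⟨hi, hj, hm⟩ := sameRay_spec i j hij hs
  obtain ⟨h6, h11, hm6, -⟩ := ray_six
  set n := nD K (mover i) * (nD K (mover 6))⁻¹ with hn
  have hnG : n ∈ T.G1 := mul_mem (T.nD_mem _) (inv_mem (T.nD_mem _))
  have key : Commute (lif π (T.lift 6 a)) (lif π (T.lift 11 b)) := hX.commute_last h8
    (by rw [hX.π_lift]; exact T.uF_zero_of (T.lift_mem_uF allS_ok (slot_facts 6).1 a))
    (by rw [hX.π_lift]; exact T.lift_mem_uF allS_ok (slot_facts 11).1 b)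
  refine hX.commute_conj (g := lif π n) ?_ ?_ key <;>
    rw [map_mul, map_mul, map_inv, hX.π_lif hnG, hX.π_lift, hX.π_lift, T.lift_eq, T.lift_eq, hn]
  · rw [h6, hi]; group
  · rw [h11, hj, ← hm, ← hm6]; group

/-! ### The retraction -/

theorem TwoExt.exists_retr : ∀ (n i : ℕ), i + n = 12 →
    ∃ f, Retr π (T.uF allS i) f ∧
      ∀ τ e, π τ ∈ T.H1 → π e ∈ T.uF allS i → f (τ * e * τ⁻¹) = f e := by
  intro n
  induction n with
  | zero =>
    intro k hk
    have h1 : ∀ e, π e ∈ T.uF allS k → π e = 1 := fun e he => T.uF_twelve (by omega) he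
    refine ⟨fun e => e, ⟨fun e he => h1 e he, fun _ _ _ _ => rfl, fun z _ => rfl⟩,
      fun τ e _ he => ?_⟩
    show τ * e * τ⁻¹ = e
    rw [← (hX.central' (h1 e he) τ).eq, mul_inv_cancel_right]
  | succ n ih =>
    intro k hk
    obtain ⟨f, hf, hfT⟩ := ih (k + 1) (by omega)
    set i : Fin 12 := ⟨k, by omega⟩ with hi
    have hLU : ∀ (j : Fin 12) (t : K), π (lif π (T.lift j t)) ∈ T.uF allS j := fun j t => by
      rw [hX.π_lift]; exact T.lift_mem_uF allS_ok (slot_facts j).1 t
    have hzker : ∀ {a e : Γ}, π a ∈ T.uF allS 0 → ∀ {j}, π e ∈ T.uF allS j →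
        π (a * e * a⁻¹) ∈ T.uF allS j := fun {a e} ha {j} he => by
      rw [map_mul, map_mul, map_inv]; exact T.conj_uF ha he
    have hsplit : ∀ {j : Fin 12} {e : Γ}, π e ∈ T.uF allS j →
        ∃ t e', π e' ∈ T.uF allS ((j : ℕ) + 1) ∧ e = lif π (T.lift j t) * e' := by
      intro j e he
      obtain ⟨t, -, z, hz, ez⟩ := T.exists_split_fix allS_ok j he
      refine ⟨t, (lif π (T.lift j t))⁻¹ * e, ?_, by group⟩
      rw [map_mul, map_inv, hX.π_lift, ez, inv_mul_cancel_left]
      exact hz
    -- invariance under conjugation by the elements over the new step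
    have hinv : ∀ m j, j + m = 12 → k + 1 ≤ j → ∀ a e, π a ∈ T.uF allS k →
        π e ∈ T.uF allS j → f (a * e * a⁻¹) = f e := by
      intro m
      induction m with
      | zero =>
        intro j hj _ a e ha he
        have h1 : π e = 1 := T.uF_twelve (by omega) he
        rw [← (hX.central' h1 a).eq, mul_inv_cancel_right]
      | succ m ihm =>
        intro j hj hkj
        set j' : Fin 12 := ⟨j, by omega⟩ with hj'
        have hstep := ihm (j + 1) (by omega) (by omega)
        have hker : ∀ {e}, π e ∈ T.uF allS j → π e ∈ T.uF allS (k + 1) :=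
          fun {e} he => T.uF_anti hkj he
        -- the value depends only on the leading parameters
        let R : Γ → Γ → Γ := fun a e => f (a * e * a⁻¹) * (f e)⁻¹
        have hRmul : ∀ {a e e' : Γ}, π a ∈ T.uF allS 0 → π e ∈ T.uF allS j → π e' ∈ T.uF allS j →
            R a (e * e') = R a e * R a e' := by
          intro a e e' ha he he'
          have hce : ∀ {x}, π x ∈ T.uF allS (k + 1) → ∀ y, Commute (f x) y := fun {x} hx y =>
            hX.central' (hf.mem x hx) y
          simp only [R]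
          rw [show a * (e * e') * a⁻¹ = (a * e * a⁻¹) * (a * e' * a⁻¹) by group,
            hf.mul _ _ (hker (hzker ha he)) (hker (hzker ha he')), hf.mul _ _ (hker he) (hker he'),
            mul_inv_rev]
          set A := f (a * e * a⁻¹)
          set B := f (a * e' * a⁻¹)
          have h1 : Commute (f e)⁻¹ (B * (f e')⁻¹) := (hce (hker he) _).inv_left
          calc A * B * ((f e')⁻¹ * (f e)⁻¹) = A * ((B * (f e')⁻¹) * (f e)⁻¹) := by group
            _ = A * ((f e)⁻¹ * (B * (f e')⁻¹)) := by rw [h1.eq]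
            _ = _ := by group
        have hRnext : ∀ {a e : Γ}, π a ∈ T.uF allS k → π e ∈ T.uF allS (j + 1) → R a e = 1 :=
          fun {a e} ha he => mul_inv_eq_one.2 (hstep a e ha he)
        have hRleft : ∀ {t : K} {a' e : Γ}, π a' ∈ T.uF allS (k + 1) → π e ∈ T.uF allS j →
            R (lif π (T.lift i t) * a') e = R (lif π (T.lift i t)) e := by
          intro t a' e ha' he
          set A := lif π (T.lift i t)
          have hA : π A ∈ T.uF allS k := hLU i t
          set w := e⁻¹ * (a' * e * a'⁻¹) with hw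
          have hw1 : π w ∈ T.uF allS (j + 1) := by
            have h1 := T.comm_uF (T.uF_zero_of ha') he
            have h2 := T.conj_uF (inv_mem (T.uF_zero_of he)) h1
            rw [inv_inv] at h2
            rw [hw]
            simp only [map_mul, map_inv]
            rwa [show ∀ a e : GL D.Idx K, e⁻¹ * (a * e * a⁻¹ * e⁻¹) * e = e⁻¹ * (a * e * a⁻¹) from
              fun a e => by group] at h2
          have hfw : f w = 1 := by
            have he' : π e⁻¹ ∈ T.uF allS (k + 1) := by rw [map_inv]; exact inv_mem (hker he)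
            rw [hw, hf.mul _ _ he' (hker (hzker (T.uF_zero_of ha') he)), hf.inv (hker he),
              hf.conj hX.central ha' (hker he), inv_mul_cancel]
          show f (A * a' * e * (A * a')⁻¹) * (f e)⁻¹ = f (A * e * A⁻¹) * (f e)⁻¹
          rw [show A * a' * e * (A * a')⁻¹ = (A * e * A⁻¹) * (A * w * A⁻¹) by rw [hw]; group,
            hf.mul _ _ (hker (hzker (T.uF_zero_of hA) he))
              (T.uF_anti (by omega) (hzker (T.uF_zero_of hA) hw1)),
            hstep A w hA hw1, hfw, mul_one]
        let F : K → K → Γ := fun t u => R (lif π (T.lift i t)) (lif π (T.lift j' u))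
        have hRF : ∀ {a e : Γ} {t u : K} {a' e' : Γ}, π a' ∈ T.uF allS (k + 1) →
            π e' ∈ T.uF allS (j + 1) → a = lif π (T.lift i t) * a' →
            e = lif π (T.lift j' u) * e' → R a e = F t u := by
          intro a e t u a' e' ha' he' ea ee
          have he : π e ∈ T.uF allS j := by
            rw [ee, map_mul]; exact mul_mem (hLU j' u) (T.uF_anti (Nat.le_succ j) he')
          rw [ea, hRleft ha' he, ee, hRmul (T.uF_zero_of (hLU i t)) (hLU j' u)
            (T.uF_anti (Nat.le_succ j) he'), hRnext (hLU i t) he', mul_one]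
        have hFadd : ∀ t u u', F t (u + u') = F t u * F t u' := by
          intro t u u'
          obtain ⟨z, hz, ez⟩ := T.lift_add j' u u'
          have e2 : π ((lif π (T.lift j' (u + u')))⁻¹ * (lif π (T.lift j' u) * lif π (T.lift j' u')))
              ∈ T.uF allS (j + 1) := by
            rw [map_mul, map_mul, map_inv, hX.π_lift, hX.π_lift, hX.π_lift, ez,
              inv_mul_cancel_left]
            exact hz
          rw [show F t u * F t u' =
              R (lif π (T.lift i t)) (lif π (T.lift j' u) * lif π (T.lift j' u')) from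
            (hRmul (T.uF_zero_of (hLU i t)) (hLU j' u) (hLU j' u')).symm]
          exact (hRF (a := lif π (T.lift i t)) (t := t) (u := u + u') (a' := 1)
            (by rw [map_one]; exact one_mem _) e2 (mul_one _).symm (by group)).symm
        have hFinv : ∀ (p : Kˣ × Kˣ) t u,
            F ((T.chiS p i : K) * t) ((T.chiS p j' : K) * u) = F t u := by
          intro p t u
          set g := lif π (T.tor2 p)
          have hg : π g ∈ T.H1 := by rw [hX.π_lif (T.tor2_mem p)]; exact T.tor2_mem_H1 p
          set A := lif π (T.lift i t)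
          set E := lif π (T.lift j' u)
          obtain ⟨z, hz, ez⟩ := T.tor2_conj_lift p i t
          obtain ⟨z', hz', ez'⟩ := T.tor2_conj_lift p j' u
          have h1 : R (g * A * g⁻¹) (g * E * g⁻¹) = R A E := by
            simp only [R]
            rw [show g * A * g⁻¹ * (g * E * g⁻¹) * (g * A * g⁻¹)⁻¹ = g * (A * E * A⁻¹) * g⁻¹ by
              group, hfT g _ hg (hker (hzker (T.uF_zero_of (hLU i t)) (hLU j' u))),
              hfT g _ hg (hker (hLU j' u))]
          rw [show F t u = R A E from rfl, ← h1]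
          refine (hRF (a' := (lif π (T.lift i ((T.chiS p i : K) * t)))⁻¹ * (g * A * g⁻¹))
            (e' := (lif π (T.lift j' ((T.chiS p j' : K) * u)))⁻¹ * (g * E * g⁻¹)) ?_ ?_
            (by group) (by group)).symm
          · rw [map_mul, map_mul, map_mul, map_inv, map_inv, hX.π_lif (T.tor2_mem p), hX.π_lift,
              hX.π_lift, ez, inv_mul_cancel_left]
            exact hz
          · rw [map_mul, map_mul, map_mul, map_inv, map_inv, hX.π_lif (T.tor2_mem p), hX.π_lift,
              hX.π_lift, ez', inv_mul_cancel_left]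
            exact hz'
        have hF : ∀ t u, F t u = 1 := by
          intro t u
          have hlt : i < j' := by rw [hi, hj']; exact Fin.mk_lt_mk.2 (by omega)
          rcases sep_ok i j' hlt.ne with hsep | hsame
          · obtain ⟨s₀, hs₀⟩ := exists_unit_ne_one (K := K) (by omega)
            obtain ⟨p, hp1, hp2⟩ := T.exists_sep hsep s₀
            have hne : (s₀ : K) + 1 ≠ 0 := fun e => hs₀ (Units.ext (CharTwo.add_eq_zero.1 e))
            have h1 := hFadd t ((s₀ : K) * (u / ((s₀ : K) + 1))) (u / ((s₀ : K) + 1))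
            have h2 := hFinv p t (u / ((s₀ : K) + 1))
            rw [hp1, hp2, Units.val_one, one_mul] at h2
            rw [← add_one_mul, mul_div_cancel₀ u hne, h2] at h1
            rw [h1]
            refine hX.sq _ ?_
            show π (f (lif π (T.lift i t) * lif π (T.lift j' (u / ((s₀ : K) + 1))) *
              (lif π (T.lift i t))⁻¹) * (f (lif π (T.lift j' (u / ((s₀ : K) + 1)))))⁻¹) = 1
            rw [map_mul, map_inv, hf.mem _ (hker (hzker (T.uF_zero_of (hLU i t)) (hLU j' _))),
              hf.mem _ (hker (hLU j' _)), inv_one, mul_one]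
          · have hcm := hX.commute_ray h8 hlt hsame t u
            show f (lif π (T.lift i t) * lif π (T.lift j' u) * (lif π (T.lift i t))⁻¹) *
              (f (lif π (T.lift j' u)))⁻¹ = 1
            rw [hcm.eq, mul_inv_cancel_right, mul_inv_cancel]
        intro a e ha he
        obtain ⟨t, a', ha', ea⟩ := hsplit (j := i) ha
        obtain ⟨u, e', he', ee⟩ := hsplit (j := j') he
        have := (hRF ha' he' ea ee).trans (hF t u)
        exact mul_inv_eq_one.1 this
    have hinv1 : ∀ a e, π a ∈ T.uF allS k → π e ∈ T.uF allS (k + 1) → f (a * e * a⁻¹) = f e :=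
      hinv (12 - (k + 1)) (k + 1) (by omega) le_rfl
    have hmem : ∀ a b, π a ∈ T.uF allS k → π b ∈ T.uF allS k → π ⁅a, b⁆ ∈ T.uF allS (k + 1) :=
      fun a b ha hb => by
        rw [map_commutatorElement, commutatorElement_def]
        exact T.comm_uF (T.uF_zero_of ha) hb
    -- the pairing of the new step with itself
    have hcL : ∀ {a b c : Γ}, π a ∈ T.uF allS k → π b ∈ T.uF allS k → π c ∈ T.uF allS k →
        f ⁅a * b, c⁆ = f ⁅b, c⁆ * f ⁅a, c⁆ := by
      intro a b c ha hb hc
      rw [show ⁅a * b, c⁆ = a * ⁅b, c⁆ * a⁻¹ * ⁅a, c⁆ by simp only [commutatorElement_def]; group,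
        hf.mul _ _ (hzker (T.uF_zero_of ha) (hmem b c hb hc)) (hmem a c ha hc),
        hinv1 a _ ha (hmem b c hb hc)]
    have hcR : ∀ {a b c : Γ}, π a ∈ T.uF allS k → π b ∈ T.uF allS k → π c ∈ T.uF allS k →
        f ⁅a, b * c⁆ = f ⁅a, b⁆ * f ⁅a, c⁆ := by
      intro a b c ha hb hc
      rw [show ⁅a, b * c⁆ = ⁅a, b⁆ * (b * ⁅a, c⁆ * b⁻¹) by simp only [commutatorElement_def]; group,
        hf.mul _ _ (hmem a b ha hb) (hzker (T.uF_zero_of hb) (hmem a c ha hc)),
        hinv1 b _ hb (hmem a c ha hc)]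
    have hnextL : ∀ {a c : Γ}, π a ∈ T.uF allS (k + 1) → π c ∈ T.uF allS k → f ⁅a, c⁆ = 1 := by
      intro a c ha hc
      have hai : π a⁻¹ ∈ T.uF allS (k + 1) := by rw [map_inv]; exact inv_mem ha
      rw [show ⁅a, c⁆ = a * (c * a⁻¹ * c⁻¹) by simp only [commutatorElement_def]; group,
        hf.mul _ _ ha (hzker (T.uF_zero_of hc) hai), hinv1 c _ hc hai, hf.inv ha, mul_inv_cancel]
    have hnextR : ∀ {a c : Γ}, π a ∈ T.uF allS k → π c ∈ T.uF allS (k + 1) → f ⁅a, c⁆ = 1 := by
      intro a c ha hc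
      rw [commutatorElement_def, hf.mul _ _ (hzker (T.uF_zero_of ha) hc)
        (by rw [map_inv]; exact inv_mem hc), hinv1 a c ha hc, hf.inv hc, mul_inv_cancel]
    let P : K → K → Γ := fun t u => f ⁅lif π (T.lift i t), lif π (T.lift i u)⁆
    have hP : ∀ {a b : Γ} {t u : K} {a' b' : Γ}, π a' ∈ T.uF allS (k + 1) →
        π b' ∈ T.uF allS (k + 1) → a = lif π (T.lift i t) * a' → b = lif π (T.lift i u) * b' →
        f ⁅a, b⁆ = P t u := by
      intro a b t u a' b' ha' hb' ea eb
      have hb0 : π b ∈ T.uF allS k := by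
        rw [eb, map_mul]; exact mul_mem (hLU i u) (T.uF_anti (Nat.le_succ k) hb')
      rw [ea, hcL (hLU i t) (T.uF_anti (Nat.le_succ k) ha') hb0, hnextL ha' hb0, one_mul, eb,
        hcR (hLU i t) (hLU i u) (T.uF_anti (Nat.le_succ k) hb'), hnextR (hLU i t) hb', mul_one]
    have hsum : ∀ t u, ∃ w, π w ∈ T.uF allS (k + 1) ∧
        lif π (T.lift i t) * lif π (T.lift i u) = lif π (T.lift i (t + u)) * w := by
      intro t u
      obtain ⟨z, hz, ez⟩ := T.lift_add i t u
      refine ⟨(lif π (T.lift i (t + u)))⁻¹ * (lif π (T.lift i t) * lif π (T.lift i u)), ?_,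
        by group⟩
      rw [map_mul, map_mul, map_inv, hX.π_lift, hX.π_lift, hX.π_lift, ez, inv_mul_cancel_left]
      exact hz
    have hscale : ∀ {μ : K}, μ ≠ 0 → ∃ g, π g ∈ T.H1 ∧ ∀ t, ∃ w, π w ∈ T.uF allS (k + 1) ∧
        g * lif π (T.lift i t) * g⁻¹ = lif π (T.lift i (μ * t)) * w := by
      intro μ hμ
      obtain ⟨s, hs⟩ := T.cK_surjective (kind i) hμ
      have hgG := hX.π_lif (T.H1_le_G1 (T.slotTor_mem i s))
      refine ⟨lif π (T.slotTor i s), by rw [hgG]; exact T.slotTor_mem i s, fun t =>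
        ⟨(lif π (T.lift i (μ * t)))⁻¹ *
          (lif π (T.slotTor i s) * lif π (T.lift i t) * (lif π (T.slotTor i s))⁻¹), ?_, by group⟩⟩
      rw [map_mul, map_mul, map_mul, map_inv, map_inv, hgG, hX.π_lift, hX.π_lift, T.slotTor_conj,
        hs, inv_mul_cancel]
      exact one_mem _
    have hP1 : ∀ t u, P t u = 1 := by
      intro t u
      obtain ⟨x₀, hx₀, hx₁, hne⟩ := exists_good h8
      refine pairing_eq_one P ?_ ?_ id ?_ hx₀ hx₁ (by simpa using hne) t u
      · intro a a' b
        obtain ⟨w, hw, e⟩ := hsum a a'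
        rw [← hP (a' := w) (b' := 1) hw (by rw [map_one]; exact one_mem _) e (mul_one _).symm,
          hcL (hLU i a) (hLU i a') (hLU i b)]
        exact (hX.central' (hf.mem _ (hmem _ _ (hLU i a') (hLU i b))) _).eq
      · intro a b b'
        obtain ⟨w, hw, e⟩ := hsum b b'
        rw [← hP (a' := 1) (b' := w) (by rw [map_one]; exact one_mem _) hw (mul_one _).symm e,
          hcR (hLU i a) (hLU i b) (hLU i b')]
      · intro μ a b hμ
        obtain ⟨g, hg, hconj⟩ := hscale hμ
        obtain ⟨w, hw, e⟩ := hconj a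
        obtain ⟨w', hw', e'⟩ := hconj b
        rw [id, ← hP hw hw' e e', ← conj_commutator, hfT g _ hg (hmem _ _ (hLU i a) (hLU i b))]
    have hcomm : ∀ a b, π a ∈ T.uF allS k → π b ∈ T.uF allS k → f ⁅a, b⁆ = 1 := by
      intro a b ha hb
      obtain ⟨t, a', ha', ea⟩ := hsplit (j := i) ha
      obtain ⟨u, b', hb', eb⟩ := hsplit (j := i) hb
      rw [hP ha' hb' ea eb, hP1]
    -- the averaging element
    obtain ⟨s₀, hs₀⟩ := exists_unit_ne_one (K := K) (by omega)
    obtain ⟨s, hs⟩ := T.cK_surjective (kind i) s₀.ne_zero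
    set τ := lif π (T.slotTor i s) with hτd
    have hτ : π τ = T.slotTor i s := hX.π_lif (T.H1_le_G1 (T.slotTor_mem i s))
    have hτU : ∀ (j : ℕ) (a : Γ), π a ∈ T.uF allS j → π (τ * a * τ⁻¹) ∈ T.uF allS j := by
      intro j a ha
      rw [map_mul, map_mul, map_inv, hτ]; exact T.conj_uS_H1 (T.slotTor_mem i s) ha
    have havg : ∀ (N : ℕ) a, π a ∈ T.uF allS k → ∀ t z, z ∈ T.uF allS (k + 1) →
        π a = T.lift i t * z → ∃ w ∈ T.uF allS (k + 1),
          π (avg τ N a) = T.lift i ((∑ x ∈ Finset.range N, (s₀ : K) ^ x) * t) * w := by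
      intro N a ha t z hz ea
      have hconj : ∀ x : ℕ, ∃ z' ∈ T.uF allS (k + 1),
          π (τ ^ x * a * (τ ^ x)⁻¹) = T.lift i ((s₀ : K) ^ x * t) * z' := by
        intro x
        induction x with
        | zero => exact ⟨z, hz, by simpa using ea⟩
        | succ x ihx =>
          obtain ⟨z', hz', e'⟩ := ihx
          refine ⟨T.slotTor i s * z' * (T.slotTor i s)⁻¹,
            T.conj_uS_H1 (T.slotTor_mem i s) hz', ?_⟩
          rw [show τ ^ (x + 1) * a * (τ ^ (x + 1))⁻¹ = τ * (τ ^ x * a * (τ ^ x)⁻¹) * τ⁻¹ by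
              rw [pow_succ']; group,
            map_mul, map_mul π τ, map_inv, hτ, e', pow_succ' (s₀ : K), mul_assoc (s₀ : K), ← hs,
            ← T.slotTor_conj]
          group
      induction N with
      | zero => exact ⟨1, one_mem _, by simp [avg_zero, T.lift_zero]⟩
      | succ N ihN =>
        obtain ⟨w, hw, ew⟩ := ihN
        obtain ⟨z', hz', e'⟩ := hconj N
        set A := (∑ x ∈ Finset.range N, (s₀ : K) ^ x) * t
        set B := (s₀ : K) ^ N * t
        obtain ⟨y, hy, ey⟩ := T.lift_add i A B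
        refine ⟨y * ((T.lift i B)⁻¹ * w * T.lift i B) * z', mul_mem (mul_mem hy ?_) hz', ?_⟩
        · have := T.conj_uF (inv_mem (T.uF_zero_of (T.lift_mem_uF allS_ok (slot_facts i).1 B))) hw
          rwa [inv_inv] at this
        · rw [avg_succ, map_mul, ew, e', Finset.sum_range_succ, add_mul]
          calc T.lift i A * w * (T.lift i B * z')
              = (T.lift i A * T.lift i B) * ((T.lift i B)⁻¹ * w * T.lift i B) * z' := by group
            _ = _ := by rw [ey]; simp only [mul_assoc, A, B]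
    have hodd : Odd (Nat.card Kˣ) := by
      haveI := Fintype.ofFinite K
      obtain ⟨r, hp, hr⟩ := FiniteField.card K 2
      rw [Nat.card_units, Nat.card_eq_fintype_card, hr]
      exact Nat.Even.sub_odd Nat.one_le_two_pow (Nat.even_pow.2 ⟨even_two, r.ne_zero⟩) odd_one
    have hsum0 : (∑ x ∈ Finset.range (Nat.card Kˣ), (s₀ : K) ^ x) = 0 := by
      have h := geom_sum_mul (s₀ : K) (Nat.card Kˣ)
      rw [← Units.val_pow_eq_pow_val, pow_card_eq_one', Units.val_one, sub_self] at h
      exact (mul_eq_zero.1 h).resolve_right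
        (sub_ne_zero.2 fun e => hs₀ (Units.ext (e.trans Units.val_one.symm)))
    have hav : ∀ a, π a ∈ T.uF allS k → π (avg τ (Nat.card Kˣ) a) ∈ T.uF allS (k + 1) := by
      intro a ha
      obtain ⟨t, -, z, hz, e⟩ := T.exists_split_fix allS_ok i ha
      obtain ⟨w, hw, ew⟩ := havg (Nat.card Kˣ) a ha t z hz e
      rw [ew, hsum0, zero_mul, T.lift_zero, one_mul]
      exact hw
    obtain ⟨hR, -⟩ := hf.extend hX.central hX.sq (T.uF_anti (Nat.le_succ k))
      (fun a e ha he => hzker (T.uF_zero_of ha) he) hinv1 hmem hcomm τ (Nat.card Kˣ) hodd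
      (hτU k) (hτU (k + 1))
      (fun e he => hfT τ e (hτ ▸ T.slotTor_mem i s) he) hav
    refine ⟨_, hR, fun g e hg he => ?_⟩
    show f (avg τ _ (g * e * g⁻¹)) = f (avg τ _ e)
    rw [avg_conj hX.central (by rw [hτ]; exact T.H1_comm hg (T.slotTor_mem i s)),
      hfT g _ hg (hav e he)]

/-- A kernel element in the commutator subgroup of the preimage of `U¹` is trivial. -/
theorem TwoExt.eq_one {z : Γ} (hz : π z = 1)
    (hzU : z ∈ ⁅T.U1.comap π, T.U1.comap π⁆) : z = 1 := by
  obtain ⟨f, hf, -⟩ := hX.exists_retr h8 12 0 rfl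
  rw [T.U1_eq] at hzU
  rw [← hf.ker z hz]
  suffices H : π z ∈ T.uF allS 0 ∧ f z = 1 from H.2
  clear hz
  induction hzU using Subgroup.closure_induction with
  | mem y hy =>
    obtain ⟨a, ha, b, hb, rfl⟩ := hy
    exact ⟨by
      rw [map_commutatorElement, commutatorElement_def]
      exact mul_mem (mul_mem (mul_mem ha hb) (inv_mem ha)) (inv_mem hb),
      hf.commutator hX.central ha hb⟩
  | one => exact ⟨by rw [map_one]; exact one_mem _, hf.one⟩
  | mul a b _ _ iha ihb =>
    exact ⟨by rw [map_mul]; exact mul_mem iha.1 ihb.1,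
      by rw [hf.mul _ _ iha.1 ihb.1, iha.2, ihb.2, mul_one]⟩
  | inv a _ iha =>
    exact ⟨by rw [map_inv]; exact inv_mem iha.1, by rw [hf.inv iha.1, iha.2, inv_one]⟩

end CfsgLib.ReeF4
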